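import Mathlib
import Cfsg.Agent.Lib.Fusion.EssSmall
import Cfsg.Agent.Lib.PGroup.RankTwo3
import Cfsg.Agent.Lib.PGroup.Critical
import Cfsg.Agent.Lib.TwoGrp.OddAut
import Cfsg.Agent.Lib.SolvStruct.MinNormal

/-!
Automorphisms of metacyclic `p`-groups, and `p'`-groups of automorphisms stabilizing chains with
cyclic factors.
-/

set_option autoImplicit false

namespace CfsgLib.Fusion

open Cfsg Subgroup
open scoped commutatorElement

variable {G : Type*} [Group G] {p : ℕ}

theorem characteristic_of_aInv {W : Subgroup G} (h : AInv ⊤ W) : W.Characteristic :=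
  characteristic_iff_map_le.2 fun α => by
    rintro _ ⟨x, hx, rfl⟩
    exact h α trivial x hx

theorem commutator_le_zpowers_of_gen {a b : G} [hn : (zpowers a).Normal]
    (h : ∀ g : G, ∃ i j : ℕ, g = a ^ i * b ^ j) : _root_.commutator G ≤ zpowers a := by
  rw [_root_.commutator_def, commutator_le]
  intro x _ y _
  have key : ∀ g : G, ∃ j : ℕ, (QuotientGroup.mk g : G ⧸ zpowers a) = QuotientGroup.mk b ^ j :=
    fun g => by
      obtain ⟨i, j, rfl⟩ := h g
      refine ⟨j, ?_⟩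
      rw [QuotientGroup.mk_mul, (QuotientGroup.eq_one_iff _).2 (pow_mem (mem_zpowers a) i), one_mul,
        QuotientGroup.mk_pow]
  obtain ⟨i, hi⟩ := key x
  obtain ⟨j, hj⟩ := key y
  rw [CfsgLib.Metacyc.commutator_mem_iff, hi, hj]
  exact (Commute.refl _).pow_pow i j

theorem closure_pair_eq_top_of_gen {a b : G} (h : ∀ g : G, ∃ i j : ℕ, g = a ^ i * b ^ j) :
    closure ({a, b} : Set G) = ⊤ := by
  rw [eq_top_iff]
  intro g _
  obtain ⟨i, j, rfl⟩ := h g
  exact mul_mem (pow_mem (subset_closure (by simp)) i) (pow_mem (subset_closure (by simp)) j)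

variable [Finite G] [hp : Fact p.Prime]

theorem index_frattini_of_isMetacyclic (hG : IsPGroup p G) (hm : IsMetacyclic G)
    (hnc : ¬ IsCyclic G) : (frattini G).index = p ^ 2 := by
  obtain ⟨a, b, -, hg⟩ := CfsgLib.Metacyc.exists_gen_of_isMetacyclic hm
  obtain ⟨k, hk, e⟩ := (Nat.dvd_prime_pow hp.out).1
    (CfsgLib.PGroup.index_frattini_le_sq_of_pair hG (closure_pair_eq_top_of_gen hg))
  by_contra hne
  refine hnc (CfsgLib.Core.isCyclic_of_index_frattini_dvd (p := p) ?_)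
  have : k ≤ 1 := by
    by_contra h'
    exact hne (by rw [e, show k = 2 by omega])
  rw [e]
  simpa using pow_dvd_pow p this

/-- A noncyclic metacyclic `p`-group without characteristic subgroups strictly between `Φ(G)` and
`G` is abelian or quaternion of order `8`. -/
theorem comm_or_quaternion_of_isMetacyclic (hG : IsPGroup p G) (hm : IsMetacyclic G)
    (hnc : ¬ IsCyclic G) (hirr : ∀ W : Subgroup G, AInv ⊤ W → ¬ W ≤ frattini G → W = ⊤) :
    (∀ a b : G, Commute a b) ∨ (p = 2 ∧ Nonempty (G ≃* QuaternionGroup 2)) := by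
  have hi := index_frattini_of_isMetacyclic hG hm hnc
  obtain ⟨a, b, hn, hg⟩ := CfsgLib.Metacyc.exists_gen_of_isMetacyclic hm
  have hD := commutator_le_zpowers_of_gen hg
  have ha : a ∉ frattini G := fun h1 => hnc (by
    have : zpowers b = ⊤ := frattini_nongenerating (eq_top_iff.2 fun g _ => by
      obtain ⟨i, j, rfl⟩ := hg g
      exact mul_mem (mem_sup_right (pow_mem h1 i)) (mem_sup_left (pow_mem (mem_zpowers b) j)))
    exact (isCyclic_iff_exists_zpowers_eq_top).2 ⟨b, this⟩)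
  have hZ : ∀ c ∈ _root_.commutator G, ∀ g, Commute c g := fun c hc g => by
    have := hirr (centralizer (_root_.commutator G : Set G)) (aInv_of_characteristic _ _)
      fun h1 => ha (h1 fun d hd => CfsgLib.Metacyc.commute_of_mem_zpowers (hD hd) (mem_zpowers a))
    exact (this.ge (mem_top g)) c hc
  by_cases hab : ∀ a b : G, Commute a b
  · exact Or.inl hab
  obtain ⟨d, hd, hdi⟩ := CfsgLib.TwoGrp.exists_dvd_zpow_mem_iff a (_root_.commutator G)
  obtain ⟨m, hm'⟩ := IsPGroup.iff_orderOf.1 hG a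
  obtain ⟨k, -, rfl⟩ := (Nat.dvd_prime_pow hp.out).1 (hm' ▸ hd)
  have hak : a ^ p ^ k ∈ _root_.commutator G := by
    have := (hdi ((p ^ k : ℕ) : ℤ)).2 dvd_rfl
    rwa [zpow_natCast] at this
  have hDe : ∀ c ∈ _root_.commutator G, ∃ j : ℤ, c = (a ^ p ^ k) ^ j := fun c hc => by
    obtain ⟨i, rfl⟩ := hD hc
    obtain ⟨j, rfl⟩ := (hdi i).1 hc
    exact ⟨j, by rw [← zpow_natCast, ← zpow_mul]⟩
  have hpow : ∀ x : G, x ^ p ^ k ∈ _root_.commutator G := fun x => by
    have h4 := hirr ((powMonoidHom (p ^ k)).ker.comap (Abelianization.of (G := G)))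
      (fun α hα x hx => by
        rw [mem_comap, MonoidHom.mem_ker, powMonoidHom_apply, ← map_pow, ← MonoidHom.mem_ker,
          Abelianization.ker_of] at hx ⊢
        exact map_pow α x _ ▸ aInv_commutator ⊤ α hα _ hx)
      fun h4 => ha (h4 (by
        rwa [mem_comap, MonoidHom.mem_ker, powMonoidHom_apply, ← map_pow, ← MonoidHom.mem_ker,
          Abelianization.ker_of]))
    have h5 := h4.ge (mem_top x)
    rwa [mem_comap, MonoidHom.mem_ker, powMonoidHom_apply, ← map_pow, ← MonoidHom.mem_ker,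
      Abelianization.ker_of] at h5
  have hcm : ∀ x y : G, y * x = x * y * ⁅y⁻¹, x⁻¹⁆ := fun x y => by
    rw [commutatorElement_def]; group
  have hcD : ∀ x y : G, ⁅x, y⁆ ∈ _root_.commutator G := fun x y =>
    commutator_mem_commutator (mem_top _) (mem_top _)
  have ha1 : a ^ p ^ k ≠ 1 := fun h1 => hab fun x y => by
    obtain ⟨j, hj⟩ := hDe _ (hcD x y)
    rw [← commutatorElement_eq_one_iff_commute, hj, h1, _root_.one_zpow]
  by_cases hq : p ^ k = 2
  · have h2 : p = 2 := (Nat.prime_dvd_prime_iff_eq hp.out Nat.prime_two).1 (by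
      rcases k with _ | k
      · simp at hq
      · exact hq ▸ dvd_pow_self p k.succ_ne_zero)
    subst h2
    rw [hq] at hpow hDe ha1 hak
    have hΦ : frattini G = _root_.commutator G := le_antisymm
      (CfsgLib.PGroup.frattini_le_of_pow_mem (p := 2) le_rfl hpow)
      (CfsgLib.PGroup.commutator_le_frattini hG)
    have hsq : ∀ c ∈ _root_.commutator G, c ^ 2 = 1 := fun c hc => by
      have : _root_.commutator G ≤ CfsgLib.PGroup.powKer (center G) inferInstance 2 := by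
        rw [_root_.commutator_def, commutator_le]
        intro x _ y _
        refine ⟨mem_center_iff.2 fun g => (hZ _ (hcD x y) g).eq.symm, ?_⟩
        have := CfsgLib.PGroup.comm_pow_eq_one_of_left (hcm y⁻¹ x⁻¹) (hZ _ (hcD _ _) _)
          (hZ _ (hpow x⁻¹) y⁻¹)
        simpa using this
      exact (this hc).2
    have hc : Nat.card (frattini G) = 2 := by
      have : frattini G = zpowers (a ^ 2) := hΦ.trans (le_antisymm (fun c hc => by
        obtain ⟨j, rfl⟩ := hDe c hc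
        exact zpow_mem (mem_zpowers _) j) (zpowers_le.2 hak))
      rw [this, Nat.card_zpowers]
      exact orderOf_eq_prime (hsq _ hak) ha1
    obtain ⟨x, y, h1, h2, h3, h4, -, h6⟩ := exists_quaternion_gens hG
      (fun h => hab (isMulCommutative_iff_forall.1 h)) (aInv_frattini ⊤)
      (fun c hc => mem_center_iff.2 fun g => (hZ c (hΦ ▸ hc) g).eq.symm)
      (fun z hz => hsq z (hΦ ▸ hz)) hi hc le_rfl
      (fun W hW hle => (em (W ≤ frattini G)).imp (fun h => le_antisymm h hle) (hirr W hW))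
    obtain ⟨e'⟩ := CfsgLib.TwoGrp.nonempty_sup_mulEquiv_quaternion h1 h2 h3
      (fun h => h4 (mem_sup_right h))
    have : zpowers x ⊔ zpowers y = ⊤ :=
      frattini_nongenerating (by rw [← h6, sup_assoc (frattini G), sup_comm])
    exact Or.inr ⟨rfl, ⟨(topEquiv.symm.trans (MulEquiv.subgroupCongr this.symm)).trans e'⟩⟩
  exfalso
  set N := zpowers ((a ^ p ^ k) ^ p) with hN
  have hNc : ∀ c ∈ _root_.commutator G, c ^ p ∈ N := fun c hc => by
    obtain ⟨j, rfl⟩ := hDe c hc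
    rw [← zpow_natCast, ← zpow_mul, mul_comm, zpow_mul, zpow_natCast]
    exact zpow_mem (mem_zpowers _) j
  have hNi : AInv ⊤ N := fun α hα x hx => by
    obtain ⟨i, rfl⟩ := hx
    rw [map_zpow, map_pow]
    exact zpow_mem (hNc _ (aInv_commutator ⊤ α hα _ hak)) i
  have hNn : N.Normal := hNi.normal le_top
  let ψ : G →* G ⧸ N := MonoidHom.mk' (fun x => QuotientGroup.mk (x ^ p ^ k)) fun x y => by
    obtain ⟨l, hl⟩ := CfsgLib.PGroup.prime_dvd_choose_two_pow hp.out hq
    rw [CfsgLib.PGroup.mul_pow_class_two (hcm x y) (hZ _ (hcD _ _) _) (hZ _ (hcD _ _) _), hl,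
      pow_mul, QuotientGroup.mk_mul, (QuotientGroup.eq_one_iff _).2 (pow_mem (hNc _ (hcD _ _)) l),
      mul_one, QuotientGroup.mk_mul]
  have hψ : ∀ x, x ∈ ψ.ker ↔ x ^ p ^ k ∈ N := fun x => QuotientGroup.eq_one_iff _
  have hidx : ψ.ker.index ∣ p := by
    refine (index_ker_dvd_card ψ (K := zpowers (QuotientGroup.mk (a ^ p ^ k))) fun x => ?_).trans ?_
    · obtain ⟨j, hj⟩ := hDe _ (hpow x)
      exact ⟨j, by change _ = QuotientGroup.mk (x ^ p ^ k); rw [hj, QuotientGroup.mk_zpow]⟩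
    · rw [Nat.card_zpowers, orderOf_dvd_iff_pow_eq_one, ← QuotientGroup.mk_pow,
        QuotientGroup.eq_one_iff]
      exact mem_zpowers _
  by_cases hle : ψ.ker ≤ frattini G
  · have := (index_dvd_of_le hle).trans hidx
    rw [hi] at this
    exact absurd (Nat.le_of_dvd hp.out.pos this) (by have := hp.out.one_lt; nlinarith)
  have := (hψ a).1 ((hirr ψ.ker (fun α hα x hx => (hψ _).2
    (map_pow α x _ ▸ hNi α hα _ ((hψ x).1 hx))) hle).ge (mem_top a))
  obtain ⟨n, hn'⟩ := IsPGroup.iff_orderOf.1 hG (a ^ p ^ k)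
  have h1 := orderOf_dvd_of_mem_zpowers this
  rcases n with _ | n
  · exact ha1 (orderOf_eq_one_iff.1 hn')
  · rw [orderOf_pow_of_dvd hp.out.ne_zero (hn' ▸ dvd_pow_self p n.succ_ne_zero), hn', pow_succ,
      Nat.mul_div_cancel _ hp.out.pos] at h1
    exact absurd (Nat.le_of_dvd (pow_pos hp.out.pos n) h1) (by
      have := hp.out.one_lt
      have := pow_pos hp.out.pos n
      nlinarith)

/-- An abelian `p`-group of rank two without characteristic subgroups strictly between `Φ(G)` and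
`G` is homocyclic. -/
theorem exists_homocyclic_of_irred (hG : IsPGroup p G) (hc : ∀ a b : G, Commute a b)
    (hi : (frattini G).index = p ^ 2)
    (hirr : ∀ W : Subgroup G, AInv ⊤ W → ¬ W ≤ frattini G → W = ⊤) :
    ∃ a, (∀ z : G, z ^ p ^ (a + 1) = 1) ∧ ∀ z : G, z ^ p ^ a = 1 → z ∈ frattini G := by
  classical
  have hex : ∃ n, ∀ z : G, z ^ p ^ n = 1 := by
    obtain ⟨n, hn⟩ := IsPGroup.iff_card.1 hG
    exact ⟨n, fun z => hn ▸ pow_card_eq_one'⟩
  have h0 : Nat.find hex ≠ 0 := fun h => by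
    have := Nat.find_spec hex
    rw [h, pow_zero] at this
    have h1 : frattini G = ⊤ := eq_top_iff.2 fun z _ => by
      rw [← pow_one z, this z]; exact one_mem _
    rw [h1, index_top] at hi
    exact absurd hi (by have := hp.out.one_lt; nlinarith)
  obtain ⟨a, ha⟩ := Nat.exists_eq_succ_of_ne_zero h0
  refine ⟨a, by have := Nat.find_spec hex; rwa [ha] at this, fun z hz => ?_⟩
  have hm : ∀ x y : G, (x * y) ^ p ^ a = x ^ p ^ a * y ^ p ^ a := fun x y => (hc x y).mul_pow _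
  by_contra hz'
  have := hirr _ (aInv_ker_pow (A := ⊤) hm) fun h => hz' (h hz)
  exact Nat.find_min hex (ha ▸ a.lt_succ_self) fun x => (this.ge (mem_top x) :)

/-- The structure of metacyclic `p`-groups with no characteristic subgroup strictly between
`Φ(G)` and `G`. -/
theorem isMetacyclic_irred (hG : IsPGroup p G) (hm : IsMetacyclic G) (hnc : ¬ IsCyclic G)
    (hirr : ∀ W : Subgroup G, AInv ⊤ W → ¬ W ≤ frattini G → W = ⊤) :
    (∃ n, 0 < n ∧ Nonempty (G ≃* Multiplicative (ZMod (p ^ n)) × Multiplicative (ZMod (p ^ n)))) ∨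
      (p = 2 ∧ Nonempty (G ≃* QuaternionGroup 2)) := by
  refine (comm_or_quaternion_of_isMetacyclic hG hm hnc hirr).imp_left fun hc => ?_
  have hi := index_frattini_of_isMetacyclic hG hm hnc
  obtain ⟨a, h1, h2⟩ := exists_homocyclic_of_irred hG hc hi hirr
  obtain ⟨e⟩ := nonempty_equiv_homocyclic hG hc hi h1 h2
  exact ⟨a + 1, a.succ_pos, ⟨e.trans (MulEquiv.prodMultiplicative _ _)⟩⟩

section Diag

variable {A H : Subgroup (MulAut G)} {X Y : Subgroup G}

omit [Finite G] hp in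
theorem mulAut_comm_cyc {C : Type*} [Group C] [h : IsCyclic C] (a b : MulAut C) :
    a * b = b * a :=
  (IsCyclic.mulAutMulEquiv C).injective (by rw [map_mul, map_mul, mul_comm])

omit [Finite G] in
theorem mulAut_pow_eq_one_of_isCyclic {C : Type*} [Group C] [Finite C] [h : IsCyclic C]
    (hC : IsPGroup p C) {a : MulAut C} (ha : (orderOf a).Coprime p) : a ^ (p - 1) = 1 := by
  obtain ⟨k, hk⟩ := IsPGroup.iff_card.1 hC
  have h1 := orderOf_dvd_natCard a
  rw [h.card_mulAut, hk] at h1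
  rcases k with _ | k
  · rw [pow_zero, Nat.totient_one, Nat.dvd_one, orderOf_eq_one_iff] at h1
    rw [h1, one_pow]
  · rw [Nat.totient_prime_pow_succ hp.out] at h1
    exact orderOf_dvd_iff_pow_eq_one.1 ((ha.pow_right k).dvd_of_dvd_mul_left h1)

omit [Finite G] hp in
theorem isCyclic_sec [X.Normal] {y : G} (h : Y ≤ X ⊔ zpowers y) : IsCyclic (Sec X Y) :=
  isCyclic_of_le (H' := zpowers (QuotientGroup.mk' X y)) (by
    rw [← MonoidHom.map_zpowers]
    refine (map_mono h).trans ?_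
    rw [Subgroup.map_sup, (Subgroup.map_eq_bot_iff X).2 (QuotientGroup.ker_mk' X).ge, bot_sup_eq])

omit [Finite G] hp in
theorem isCyclic_sec_subgroupOf [X.Normal] (h : IsCyclic (Sec X Y)) (E : Subgroup G) :
    IsCyclic (Sec (X.subgroupOf E) (Y.subgroupOf E)) := by
  let j : E ⧸ X.subgroupOf E →* G ⧸ X := QuotientGroup.map _ _ E.subtype le_rfl
  have hj : Function.Injective j := by
    rw [injective_iff_map_eq_one]
    intro q hq
    obtain ⟨x, rfl⟩ := QuotientGroup.mk_surjective q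
    exact (QuotientGroup.eq_one_iff _).2 ((QuotientGroup.eq_one_iff (x : G)).1 hq)
  have : IsCyclic ((Sec (X.subgroupOf E) (Y.subgroupOf E)).map j) := isCyclic_of_le (H' := Sec X Y) (by
    rintro _ ⟨_, ⟨x, hx, rfl⟩, rfl⟩
    exact ⟨x, hx, rfl⟩)
  exact (equivMapOfInjective _ j hj).isCyclic.2 this

omit [Finite G] hp in
theorem orderOf_secAut_coprime [X.Normal] (hX : AInv A X) (hY : AInv A Y) {a : A}
    (h : (orderOf (a : MulAut G)).Coprime p) : (orderOf (secAut hX hY a)).Coprime p :=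
  Nat.Coprime.coprime_dvd_left (orderOf_map_dvd _ a) (by rwa [← Subgroup.orderOf_coe])

omit [Finite G] hp in
/-- `p`-elements act as `p`-elements on a cyclic section, and those form a normal subgroup. -/
theorem copStab_of_isCyclic [X.Normal] (hX : AInv A X) (hY : AInv A Y) (hc : IsCyclic (Sec X Y))
    {u : MulAut G} (hu : u ∈ A) (hup : IsPGroup p (zpowers u)) : CopStab p A X Y u := by
  let K : Subgroup A :=
    { carrier := {a | ∃ k, secAut hX hY a ^ p ^ k = 1}
      one_mem' := ⟨0, by simp⟩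
      mul_mem' := by
        rintro a b ⟨k, hk⟩ ⟨l, hl⟩
        refine ⟨k + l, ?_⟩
        rw [map_mul, Commute.mul_pow (mulAut_comm_cyc _ _), pow_add, pow_mul, hk, mul_comm,
          pow_mul, hl, one_pow, one_pow, one_mul]
      inv_mem' := by
        rintro a ⟨k, hk⟩
        exact ⟨k, by rw [map_inv, inv_pow, hk, inv_one]⟩ }
  refine ⟨K.map A.subtype, map_subtype_le K, le_normalizer_of_conj_mem ?_, ⟨⟨u, hu⟩, ?_, rfl⟩, ?_⟩
  · rintro a ha _ ⟨b, ⟨k, hk⟩, rfl⟩
    refine ⟨⟨a, ha⟩ * b * ⟨a, ha⟩⁻¹, ⟨k, ?_⟩, rfl⟩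
    rwa [map_mul, map_mul, mulAut_comm_cyc (secAut hX hY ⟨a, ha⟩), mul_assoc, ← map_mul,
      mul_inv_cancel, map_one, mul_one]
  · obtain ⟨k, hk⟩ := hup ⟨u, mem_zpowers u⟩
    refine ⟨k, ?_⟩
    have hk' : u ^ p ^ k = 1 := congrArg Subtype.val hk
    rw [← map_pow, show (⟨u, hu⟩ : A) ^ p ^ k = 1 from Subtype.ext hk', map_one]
  · rintro _ ⟨b, ⟨k, hk⟩, rfl⟩ hb
    refine (secAut_eq_one_iff hX hY b).1 (orderOf_eq_one_iff.1 ?_)
    exact (Nat.coprime_self _).1 ((Nat.Coprime.pow_right k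
      (orderOf_secAut_coprime hX hY hb)).coprime_dvd_right (orderOf_dvd_of_pow_eq_one hk))

/-- All `p'`-groups of automorphisms are abelian of exponent dividing `p - 1`. -/
def AutDiag (p : ℕ) (G : Type*) [Group G] : Prop :=
  ∀ H : Subgroup (MulAut G), (Nat.card H).Coprime p → IsMulCommutative H ∧ ∀ h ∈ H, h ^ (p - 1) = 1

omit [Finite G] hp in
theorem orderOf_coprime_of_mem (hH : (Nat.card H).Coprime p) {α : MulAut G} (h : α ∈ H) :
    (orderOf α).Coprime p := hH.coprime_dvd_left (H.orderOf_dvd_natCard h)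

/-- The elements that have to vanish in a diagonalizable group. -/
def DiagElt (p : ℕ) (H : Subgroup (MulAut G)) (γ : MulAut G) : Prop :=
  (∃ α ∈ H, ∃ β ∈ H, γ = (α * β)⁻¹ * (β * α)) ∨ ∃ α ∈ H, γ = α ^ (p - 1)

omit [Finite G] hp in
theorem DiagElt.mem {γ : MulAut G} (h : DiagElt p H γ) : γ ∈ H := by
  rcases h with ⟨α, hα, β, hβ, rfl⟩ | ⟨α, hα, rfl⟩
  exacts [H.mul_mem (H.inv_mem (H.mul_mem hα hβ)) (H.mul_mem hβ hα), H.pow_mem hα _]

theorem DiagElt.stabOn (hG : IsPGroup p G) (hH : (Nat.card H).Coprime p) [X.Normal] (hX : AInv H X)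
    (hY : AInv H Y) (hc : IsCyclic (Sec X Y)) {γ : MulAut G} (h : DiagElt p H γ) :
    StabOn γ X Y := by
  rcases h with ⟨α, hα, β, hβ, rfl⟩ | ⟨α, hα, rfl⟩
  · refine (secAut_eq_one_iff hX hY (((⟨α, hα⟩ : H) * ⟨β, hβ⟩)⁻¹ * (⟨β, hβ⟩ * ⟨α, hα⟩))).1 ?_
    rw [map_mul, map_inv, map_mul, map_mul, mulAut_comm_cyc (secAut hX hY ⟨α, hα⟩),
      inv_mul_cancel]
  · refine (secAut_eq_one_iff hX hY ((⟨α, hα⟩ : H) ^ (p - 1))).1 ?_
    rw [map_pow]
    exact mulAut_pow_eq_one_of_isCyclic ((hG.to_quotient X).to_subgroup _)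
      (orderOf_secAut_coprime hX hY (orderOf_coprime_of_mem hH hα))

omit [Finite G] hp in
theorem diag_of_diagElt (h : ∀ γ, DiagElt p H γ → γ = 1) :
    IsMulCommutative H ∧ ∀ h ∈ H, h ^ (p - 1) = 1 :=
  ⟨CfsgLib.PGroup.isMulCommutative_iff.2 fun α hα β hβ =>
    inv_mul_eq_one.1 (h _ (Or.inl ⟨α, hα, β, hβ, rfl⟩)), fun α hα => h _ (Or.inr ⟨α, hα, rfl⟩)⟩

/-- A characteristic chain with cyclic factors from `Φ(G)` to `G` diagonalizes the `p'`-groups of
automorphisms. -/
theorem autDiag_of_chain (hG : IsPGroup p G) (c : ℕ → Subgroup G) (n : ℕ) (h0 : c 0 ≤ frattini G)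
    (hn : c n = ⊤) (hc : ∀ i, AInv ⊤ (c i))
    (hs : ∀ i < n, c i ≤ c (i + 1) ∧ ∃ y, c (i + 1) ≤ c i ⊔ zpowers y) : AutDiag p G := by
  refine fun H hH => diag_of_diagElt fun γ hγ => ?_
  have hco := orderOf_coprime_of_mem hH hγ.mem
  have := (hc 0).normal le_top
  have key : ∀ i ≤ n, c 0 ≤ c i ∧ StabOn γ (c 0) (c i) := fun i hi => by
    induction i with
    | zero => exact ⟨le_rfl, stabOn_of_inv (hc 0 γ trivial)⟩
    | succ i ih =>
      obtain ⟨h1, h2⟩ := ih (by omega)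
      obtain ⟨h3, y, hy⟩ := hs i hi
      have := (hc i).normal le_top
      exact ⟨h1.trans h3, StabOn.trans_of_coprime hG hco h1 h2 (hγ.stabOn hG hH ((hc i).mono le_top)
        ((hc _).mono le_top) (isCyclic_sec hy))⟩
  exact eq_one_of_stabOn_frattini hG hco (hn ▸ (key n le_rfl).2.mono h0 le_rfl)

theorem autDiag_of_isCyclic (hG : IsPGroup p G) [IsCyclic G] : AutDiag p G := fun _ hH =>
  ⟨CfsgLib.PGroup.isMulCommutative_iff.2 fun α _ β _ => mulAut_comm_cyc α β,
    fun _ hα => mulAut_pow_eq_one_of_isCyclic hG (orderOf_coprime_of_mem hH hα)⟩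

omit [Finite G] in
theorem exists_le_sup_zpowers_of_relIndex_dvd (hXY : X ≤ Y) (h : X.relIndex Y ∣ p) :
    ∃ y, Y ≤ X ⊔ zpowers y := by
  by_cases hle : Y ≤ X
  · exact ⟨1, hle.trans le_sup_left⟩
  obtain ⟨y, hy, hyX⟩ := SetLike.not_le_iff_exists.1 hle
  rcases (Nat.dvd_prime hp.out).1 h with h | h
  · exact absurd (relIndex_eq_one.1 h) hle
  · exact ⟨y, (eq_sup_zpowers_of_relIndex_prime hXY (h ▸ hp.out) hy hyX).ge⟩

theorem autDiag_of_index_sq (hG : IsPGroup p G) (hi : (frattini G).index = p ^ 2) {W : Subgroup G}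
    (hW : AInv ⊤ W) (h1 : ¬ W ≤ frattini G) (h2 : W ≠ ⊤) : AutDiag p G := by
  have hne : W ⊔ frattini G ≠ ⊤ := fun h => h2 (frattini_nongenerating h)
  have e := relIndex_mul_index (le_sup_right : frattini G ≤ W ⊔ frattini G)
  rw [hi] at e
  refine autDiag_of_chain hG (fun i => if i = 0 then frattini G else if i = 1 then W ⊔ frattini G
    else ⊤) 2 le_rfl rfl (fun i => ?_) fun i hi => ?_
  · split_ifs
    exacts [aInv_frattini _, hW.sup (aInv_frattini _), aInv_top _]
  · interval_cases i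
    · exact ⟨le_sup_right, exists_le_sup_zpowers_of_relIndex_dvd (p := p) le_sup_right
        (dvd_prime_of_mul_eq_sq e (mt index_eq_one.1 hne))⟩
    · refine ⟨le_top, exists_le_sup_zpowers_of_relIndex_dvd (p := p) le_top ?_⟩
      change (W ⊔ frattini G).relIndex ⊤ ∣ p
      rw [relIndex_top_right]
      exact dvd_prime_of_mul_eq_sq ((mul_comm _ _).trans e) fun h =>
        h1 (le_sup_left.trans (relIndex_eq_one.1 h))

/-- Metacyclic `p`-groups: either homocyclic of rank two, or `Q₈`, or diagonalizable. -/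
theorem autDiag_of_isMetacyclic (hG : IsPGroup p G) (hm : IsMetacyclic G) :
    (∃ n, 0 < n ∧ Nonempty (G ≃* Multiplicative (ZMod (p ^ n)) × Multiplicative (ZMod (p ^ n)))) ∨
      (p = 2 ∧ Nonempty (G ≃* QuaternionGroup 2)) ∨ AutDiag p G := by
  by_cases hnc : IsCyclic G
  · exact Or.inr (Or.inr (autDiag_of_isCyclic hG))
  by_cases hirr : ∀ W : Subgroup G, AInv ⊤ W → ¬ W ≤ frattini G → W = ⊤
  · exact (isMetacyclic_irred hG hm hnc hirr).imp_right Or.inl
  · push Not at hirr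
    obtain ⟨W, h1, h2, h3⟩ := hirr
    exact Or.inr (Or.inr (autDiag_of_index_sq hG (index_frattini_of_isMetacyclic hG hm hnc) h1 h2 h3))

omit hp in
theorem AutDiag.isPGroup (h : AutDiag 2 G) : IsPGroup 2 (MulAut G) :=
  have := finite_mulAut' G
  CfsgLib.TwoGrp.isPGroup_two_of_odd_eq_one fun α hα => by
    simpa using (h (zpowers α) (by
      rw [Nat.card_zpowers]; exact Nat.coprime_two_right.2 hα)).2 α (mem_zpowers α)

omit hp [Finite G] in
theorem autDiag_two_of_isPGroup (h : IsPGroup 2 (MulAut G)) : AutDiag 2 G := fun _ hH =>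
  diag_of_diagElt fun _ hγ => eq_one_of_pow_coprime h (orderOf_coprime_of_mem hH hγ.mem)
    (pow_orderOf_eq_one _)

/-- A diagonalizable group of automorphisms has an eigenvector in every proper quotient. -/
theorem exists_eigen_mod (hG : IsPGroup p G) (hc : IsMulCommutative H)
    (he : ∀ h ∈ H, h ^ (p - 1) = 1) [X.Normal] (hX : AInv H X) (hne : X ≠ ⊤) :
    ∃ y, y ∉ X ∧ (∀ g, ⁅y, g⁆ ∈ X) ∧ AInv H (X ⊔ zpowers y) := by
  let V := CfsgLib.PGroup.centralPowMod X p
  have hV : AInv H V := fun α hα x hx => ⟨map_pow α x p ▸ hX α hα _ hx.1, fun g => by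
    have := hX α hα _ (hx.2 (α⁻¹ g))
    rwa [map_commutatorElement, MulAut.apply_inv_self] at this⟩
  obtain ⟨W, ⟨hW, hWV, hXW, hWX⟩, hmin⟩ := exists_minimalFor_of_wellFoundedLT
    (fun W : Subgroup G => AInv H W ∧ W ≤ V ∧ X ≤ W ∧ ¬ W ≤ X) id ⟨V, hV, le_rfl, fun x hx =>
      ⟨X.pow_mem hx p, fun g => CfsgLib.PGroup.commutatorElement_mem_of_left hx g⟩, by
      obtain ⟨x, -, h1, h2, h3⟩ := CfsgLib.PGroup.exists_central_mod_pow_mem hG (M := ⊤) (N := X)
        (mt top_le_iff.1 hne)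
      exact fun h => h1 (h ⟨h2, h3⟩)⟩
  obtain ⟨y, hy, hyX⟩ := SetLike.not_le_iff_exists.1 hWX
  refine ⟨y, hyX, (hWV hy).2, aInv_of_map_le fun α hα => ?_⟩
  have hcm : ∀ a b : Sec X W, a * b = b * a := fun a b => by
    obtain ⟨a, ha, rfl⟩ := secMk_surj a
    obtain ⟨b, hb, rfl⟩ := secMk_surj b
    rw [← secMk_mul, ← secMk_mul, secMk_eq_iff]
    simpa [commutatorElement_def, mul_assoc] using (hWV (W.inv_mem hb)).2 a⁻¹
  have : Nontrivial (Sec X W) := ⟨secMk X y hy, 1, mt (secMk_eq_one_iff hy).1 hyX⟩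
  obtain ⟨a, v, hv1, hv⟩ := CfsgLib.SolvStruct.exists_eigenvector_mulAut (p := p) ⟨⟨hcm⟩⟩
    (fun q => by
      obtain ⟨a, ha, rfl⟩ := secMk_surj q
      rw [← secMk_pow, secMk_eq_one_iff]
      exact (hWV ha).1) (secAut hX hW ⟨α, hα⟩) (by
      rw [← map_pow, show (⟨α, hα⟩ : H) ^ (p - 1) = 1 from Subtype.ext (he α hα), map_one])
  obtain ⟨v, hvW, rfl⟩ := secMk_surj v
  let W' : Subgroup G :=
    { carrier := {w | ∃ hw : w ∈ W, secAut hX hW ⟨α, hα⟩ (secMk X w hw) = secMk X w hw ^ a}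
      one_mem' := ⟨W.one_mem, by
        rw [(secMk_eq_one_iff W.one_mem).2 X.one_mem, map_one, one_pow]⟩
      mul_mem' := by
        rintro x z ⟨hx, ex⟩ ⟨hz, ez⟩
        exact ⟨W.mul_mem hx hz, by rw [secMk_mul, map_mul, ex, ez, Commute.mul_pow (hcm _ _)]⟩
      inv_mem' := by
        rintro x ⟨hx, ex⟩
        exact ⟨W.inv_mem hx, by rw [secMk_inv, map_inv, ex, inv_pow]⟩ }
  have hW'W : W' ≤ W := fun w hw => hw.1
  obtain ⟨_, ey⟩ : y ∈ W' := hmin (j := W') ⟨fun β hβ w hw => ⟨hW β hβ w hw.1, by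
      rw [← secAut_mk hX hW ⟨β, hβ⟩ hw.1, ← map_pow, ← hw.2, ← MulAut.mul_apply, ← MulAut.mul_apply,
        ← map_mul, ← map_mul, mul_comm' (⟨α, hα⟩ : H)]⟩, hW'W.trans hWV,
    fun x hx => ⟨hXW hx, by rw [(secMk_eq_one_iff _).2 hx, map_one, one_pow]⟩,
    fun h => hv1 ((secMk_eq_one_iff hvW).2 (h ⟨hvW, hv⟩))⟩ hW'W hy
  rw [secAut_mk, ← secMk_pow, secMk_eq_iff] at ey
  rw [Subgroup.map_sup, MonoidHom.map_zpowers]
  refine sup_le ((hX.map_le hα).trans le_sup_left) (zpowers_le.2 ?_)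
  have := mul_mem (mem_sup_right (S := X) (pow_mem (mem_zpowers y) a))
    (mem_sup_left (T := zpowers y) (X.inv_mem ey))
  simpa using this

omit [Finite G] hp in
theorem AutDiag.of_injective {G' : Type*} [Group G'] (h : AutDiag p G) (j : MulAut G' →* MulAut G)
    (hj : Function.Injective j) : AutDiag p G' := fun H hH => by
  obtain ⟨h1, h2⟩ := h (H.map j) (by rwa [card_map_of_injective hj])
  refine ⟨CfsgLib.PGroup.isMulCommutative_iff.2 fun α hα β hβ => hj ?_, fun α hα => hj ?_⟩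
  · rw [map_mul, map_mul]
    exact CfsgLib.PGroup.isMulCommutative_iff.1 h1 _ ⟨α, hα, rfl⟩ _ ⟨β, hβ, rfl⟩
  · rw [map_pow, map_one, h2 _ ⟨α, hα, rfl⟩]

omit [Finite G] hp in
theorem AutDiag.of_equiv {G' : Type*} [Group G'] (h : AutDiag p G) (e : G' ≃* G) : AutDiag p G' :=
  h.of_injective (MulAut.congr e).toMonoidHom (MulAut.congr e).injective

omit [Finite G] hp in
theorem AutDiag.of_prod {K : Type*} [Group K] (h : AutDiag p (G × K)) : AutDiag p G :=
  h.of_injective (MonoidHom.mk' (fun α => α.prodCongr (MulEquiv.refl K)) fun _ _ => rfl)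
    fun _ _ e => MulEquiv.ext fun x => congrArg Prod.fst (DFunLike.congr_fun e (x, 1))

omit [Finite G] in
theorem not_autDiag_sq {C : Type*} [CommGroup C] [Finite C] [Nontrivial C] (hC : IsPGroup p C) :
    ¬ AutDiag p (C × C) := fun h => by
  obtain ⟨c, hc⟩ := exists_ne (1 : C)
  have := finite_mulAut' (C × C)
  by_cases h2 : p = 2
  · subst h2
    let ω : MulAut (C × C) :=
      { toFun := fun x => (x.2⁻¹, x.1 * x.2⁻¹)
        invFun := fun x => (x.1⁻¹ * x.2, x.1⁻¹)
        left_inv := fun x => by simp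
        right_inv := fun x => by simp
        map_mul' := fun x y => by simp [mul_comm, mul_left_comm, mul_assoc] }
    have h3 : ω ^ 3 = 1 := MulEquiv.ext fun x => by simp [ω, pow_succ]
    have := eq_one_of_pow_coprime h.isPGroup (by norm_num) h3
    exact hc ((congrArg Prod.fst (DFunLike.congr_fun this (c, 1))).symm.trans (by simp [ω]))
  · let ρ : MulAut (C × C) :=
      { toFun := fun x => (x.2⁻¹, x.1)
        invFun := fun x => (x.2, x.1⁻¹)
        left_inv := fun x => by simp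
        right_inv := fun x => by simp
        map_mul' := fun x y => by simp [mul_comm] }
    let σ : MulAut (C × C) := MulEquiv.prodComm
    have : Fact (Nat.Prime 2) := ⟨Nat.prime_two⟩
    have hP : IsPGroup 2 (zpowers ρ ⊔ zpowers σ : Subgroup (MulAut (C × C))) :=
      IsPGroup.to_sup_of_normal_left'
        (CfsgLib.Core.isPGroup_zpowers_iff.2 ⟨2, MulEquiv.ext fun x => by simp [ρ, pow_succ]⟩)
        (CfsgLib.Core.isPGroup_zpowers_iff.2 ⟨1, MulEquiv.ext fun x => rfl⟩)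
        (zpowers_le.2 (CfsgLib.TwoGrp.mem_normalizer_zpowers_of_inv (MulEquiv.ext fun x => rfl)))
    obtain ⟨k, hk⟩ := IsPGroup.iff_card.1 hP
    have h3 := CfsgLib.PGroup.isMulCommutative_iff.1 (h _ (hk ▸ Nat.Coprime.pow_left k
      ((Nat.coprime_primes Nat.prime_two hp.out).2 (Ne.symm h2)))).1 ρ (mem_sup_left (mem_zpowers _))
      σ (mem_sup_right (mem_zpowers _))
    have h4 : c⁻¹ = c := congrArg Prod.fst (DFunLike.congr_fun h3 (c, 1))
    exact hc (eq_one_of_pow_coprime hC ((Nat.coprime_primes Nat.prime_two hp.out).2 (Ne.symm h2))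
      (by rw [sq, ← inv_eq_iff_mul_eq_one, h4]))

omit [Finite G] in
theorem not_autDiag_of_equiv {K : Type*} [Group K] {n : ℕ} (hn : 0 < n)
    (e : G ≃* (Multiplicative (ZMod (p ^ n)) × Multiplicative (ZMod (p ^ n))) × K) :
    ¬ AutDiag p G := fun h => by
  have : Fact (1 < p ^ n) := ⟨Nat.one_lt_pow hn.ne' hp.out.one_lt⟩
  have : NeZero (p ^ n) := ⟨(pow_pos hp.out.pos n).ne'⟩
  exact not_autDiag_sq (IsPGroup.of_card (n := n) (by simp)) (h.of_equiv e.symm).of_prod

end Diag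

end CfsgLib.Fusion
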