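import Mathlib
import Cfsg.Agent.Lib.MaxCl.Pearl
import Cfsg.Agent.Lib.PGroup.Rank
import Cfsg.Agent.Lib.Fusion.Top
import Cfsg.Agent.Lib.Fusion.AutPair
import Cfsg.Agent.Lib.Fusion.SemiEx

/-!
The upper central series of a `p`-group of maximal class, and the essential subgroup `C_S(Z₂(S))`.
-/

set_option autoImplicit false

namespace CfsgLib.Fusion

open Cfsg Cfsg.FusionSystem Subgroup CfsgLib.MaxCl
open scoped commutatorElement

section Group

variable {G : Type*} [Group G] [Finite G] {p n : ℕ} [hp : Fact p.Prime]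

theorem mc_of_ne_bot (hG : Nat.card G = p ^ n) (h3 : 3 ≤ n) (h : L G (n - 2) ≠ ⊥) : MC G p n := by
  have hP := IsPGroup.of_card hG
  have := hP.isNilpotent
  refine ⟨h3, hG, le_antisymm ?_ ?_⟩
  · exact (PGroup.nilpotencyClass_le_of_card_le (n - 2) hP
      (by rw [hG, Nat.sub_add_cancel (by omega)])).trans (by omega)
  · by_contra H
    exact h (Subgroup.lowerCentralSeries_eq_bot_iff_nilpotencyClass_le.2 (by omega))

theorem mc_sup_zpowers_ne_top (h : MC G p n) (y : G) : L G 1 ⊔ zpowers y ≠ ⊤ := fun e => by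
  have h1 : zpowers y = ⊤ := frattini_nongenerating (eq_top_iff.2 (e.ge.trans (sup_le
    (le_sup_of_le_right (CfsgLib.Core.commutator_le_frattini_of_isPGroup h.pgroup)) le_sup_left)))
  have : IsCyclic G := isCyclic_iff_exists_zpowers_eq_top.2 ⟨y, h1⟩
  exact h.not_comm inferInstance

theorem mc_mem_L_of_comm (h : MC G p n) {k : ℕ} (h1 : 1 ≤ k) (hk : k + 2 ≤ n) {y : G}
    (hy : ∀ x, ⁅y, x⁆ ∈ L G (k + 1)) : y ∈ L G k := by
  obtain ⟨s, hs⟩ := h.exists_unif
  have key : ∀ j, j + 1 ≤ k → y ∈ L G (j + 1) := fun j hj => by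
    induction j with
    | zero =>
      by_contra H
      obtain ⟨x, -, hx⟩ := SetLike.not_le_iff_exists.1 (mt eq_top_iff.2 (mc_sup_zpowers_ne_top h y))
      exact h.comm_not_mem_two le_sup_left (mem_sup_right (mem_zpowers y)) H hx
        (L_anti (by omega) (hy x))
    | succ j ih =>
      by_contra H
      exact h.comm_not_mem (by omega) (hs.2 (j + 1) (by omega) (by omega)) (ih (by omega)) H
        (L_anti (by omega) (hy s))
  obtain ⟨j, rfl⟩ : ∃ j, k = j + 1 := ⟨k - 1, by omega⟩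
  exact key j le_rfl

theorem mc_center_eq (h : MC G p n) : Subgroup.center G = L G (n - 2) :=
  have := h.three
  le_antisymm (fun y hy => mc_mem_L_of_comm h (by omega) (by omega) fun x => by
    rw [commutatorElement_eq_one_iff_mul_comm.2 (mem_center_iff.1 hy x).symm]
    exact Subgroup.one_mem _) h.L_le_center

omit [Finite G] in
theorem mem_upperCentralSeries_two {y : G} :
    y ∈ Subgroup.upperCentralSeries G 2 ↔ ∀ x, ⁅y, x⁆ ∈ Subgroup.center G := by
  rw [Subgroup.mem_upperCentralSeries_succ_iff, Subgroup.upperCentralSeries_one]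

theorem mc_ucs_two_eq (h : MC G p n) (h4 : 4 ≤ n) : Subgroup.upperCentralSeries G 2 = L G (n - 3) := by
  have e : n - 3 + 1 = n - 2 := by omega
  refine le_antisymm (fun y hy => mc_mem_L_of_comm h (by omega) (by omega) fun x => ?_) fun y hy =>
    mem_upperCentralSeries_two.2 fun x => ?_
  · rw [e, ← mc_center_eq h]
    exact mem_upperCentralSeries_two.1 hy x
  · rw [mc_center_eq h, ← e]
    exact comm_mem_L hy x

theorem mc_K_eq_centralizer (h : MC G p n) (h4 : 3 ≤ n) :
    K G (n - 3) = centralizer (L G (n - 3) : Set G) := by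
  ext x
  rw [mem_K, mem_centralizer_iff, h.L_eq_bot (i := n - 3 + 2) (by omega)]
  exact forall₂_congr fun g _ => mem_bot.trans commutatorElement_eq_one_iff_mul_comm

theorem mc_eq_top_of_K_lt (h : MC G p n) {i : ℕ} (hi : 1 ≤ i) (hn : i + 3 ≤ n) {M : Subgroup G}
    (hM : K G i < M) : M = ⊤ := by
  by_contra H
  obtain ⟨y, hy, hy'⟩ := exists_mem_notMem_of_card_lt (H := L G 1) (K := K G i) (by
    rw [h.card_L le_rfl, h.card_K hi hn]
    exact Nat.pow_lt_pow_right hp.out.one_lt (by omega))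
  exact hM.not_ge (h.le_of_between (L_le_K i) hy hy' hM.le H)

end Group

variable {Ω : Type*} [Group Ω] {S : Subgroup Ω} [Finite S] {F : FusionSystem S} {p n : ℕ}
  [hp : Fact p.Prime]

theorem mc_of_lcs_ne_bot (hn : Nat.card S = p ^ n) (h3 : 3 ≤ n)
    (h : S.lowerCentralSeries (n - 2) ≠ ⊥) : MC S p n :=
  mc_of_ne_bot hn h3 fun e => h (by rw [← map_lowerCentralSeries_subtype, ← map_bot S.subtype, ← e])

theorem mc_eq_of_centralizer_lt (h : MC S p n) (h4 : 4 ≤ n) {R : Subgroup Ω} (hR : R ≤ S)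
    (hlt : centralizerIn S (ucs S 2) < R) : R = S := by
  refine le_antisymm hR (subgroupOf_eq_top.1 (mc_eq_top_of_K_lt h (i := n - 3) (by omega)
    (by omega) (lt_of_le_of_ne ?_ fun e => hlt.not_ge fun x hx => ?_)))
  all_goals rw [mc_K_eq_centralizer h (by omega), ← mc_ucs_two_eq h h4] at *
  · exact fun x hx => hlt.le ⟨x.2, by
      rintro _ ⟨y, hy, rfl⟩; exact congrArg Subtype.val (hx y hy)⟩
  · refine ⟨hR hx, ?_⟩
    rintro _ ⟨y, hy, rfl⟩
    exact congrArg Subtype.val (e.ge (show (⟨x, hR hx⟩ : S) ∈ R.subgroupOf S from hx) y hy)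

theorem essential_centralizer_ucs_two (hF : F.IsSaturated p) (h : MC S p n) (h4 : 4 ≤ n)
    {f : Ω → Ω} (hf : Mor F (ucs S 2) f) (e : img (ucs S 2) f = ucs S 2) {z : Ω}
    (hz : z ∈ centralizerIn S S) (hz2 : z ∈ ucs S 2) (hfz : f z ∉ centralizerIn S S) :
    F.IsEssential p (centralizerIn S (ucs S 2)) := by
  have hS := h.pgroup
  have hn : S ≤ Subgroup.normalizer (ucs S 2 : Set Ω) :=
    have := finite_of_le (ucs_le S 2)
    fun a ha => mem_normalizer_fintype fun x hx => conj_mem_ucs (Subgroup.le_normalizer ha) hx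
  obtain ⟨g, hg, eg⟩ := hf.extend (e.symm ▸ sat_receptive_of_fullyNormalized hS hF
    (fullyNormalized_of_le_normalizer (ucs_le S 2) hn))
  have hQ := centralizerIn_le S (ucs S 2)
  have := finite_of_le hQ
  obtain ⟨α, hα, eα⟩ := (hg.mono (centralizerIn_le_extn S _ f)).exists_aut_of_mem fun c hc =>
    hg.mem_centralizerIn_of_img_eq hf.le_extn ((img_congr eg).trans e)
      (centralizerIn_le_extn S _ f hc) hc
  have hzQ : z ∈ centralizerIn S (ucs S 2) := centralizerIn_anti (ucs_le S 2) hz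
  refine (essential_iff_not_le_extendableAuts hS hF (lt_of_le_of_ne hQ fun H => hfz ?_)
    (fullyNormalized_of_le_normalizer hQ fun a ha => mem_normalizer_fintype fun x hx =>
      ⟨S.mul_mem (S.mul_mem ha hx.1) (S.inv_mem ha), (Core.normalizer_le_normalizer_centralizer _
        (hn ha) x).1 hx.2⟩)).2 fun hle => hfz ?_
  · have h1 : f z ∈ ucs S 2 := e ▸ mem_img_of_mem f hz2
    exact ⟨ucs_le S 2 h1, fun y hy => ((H.ge hy).2 _ h1).symm⟩
  · have h1 := (extendableAuts_le_iff (B := autStab ((centralizerIn S S).subgroupOf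
      (centralizerIn S (ucs S 2))))).2 (fun β R k hR hk ek => mem_autStab_of_finite fun x hx => ?_)
      (hle hα) ⟨z, hzQ⟩
    · rw [← eg z hz2, ← eα z hzQ, extAut_apply α hzQ]
      exact h1.2 hz
    · obtain rfl := mc_eq_of_centralizer_lt h h4 hk.le hR
      rw [mem_subgroupOf, coe_eq_extAut, ← ek x x.2]
      exact hk.mem_centralizerIn_of_img_eq le_rfl hk.img_top (hQ x.2) hx

end CfsgLib.Fusion
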