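import Mathlib
import Cfsg.Agent.Lib.Fusion.CentPre

/-!
# E-balance and the dichotomy for saturated fusion systems
-/

set_option autoImplicit false
set_option linter.unusedSectionVars false

open Cfsg Cfsg.FusionSystem
open scoped commutatorElement

namespace CfsgLib.Fusion

universe u

variable {Ω : Type u} [Group Ω] {S T V : Subgroup Ω} {p : ℕ} {F : FusionSystem S} {E : FusionSystem T}
  {C : FusionSystem V} {P Q R U W X Y : Subgroup Ω} {f g : Ω → Ω}

theorem CMor.conj_along (h : CMor F X P f) (hg : Mor F R g) (hX : X ≤ R) (hC : centralizerIn S X ≤ R) :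
    ∃ f', CMor F (img X g) (img P g) f' ∧ ∀ x ∈ P, f' (g x) = g (f x) := by
  obtain ⟨h1, k, hk, e1, e2⟩ := id h
  have hP := h1.trans hC
  obtain ⟨k', hk', e⟩ := inv_conj_exists (isInvariantIn_refl F) hk hg (sup_le hP hX) (hk.hom.mem_of_sup
    (fun x hx => by rw [e1 x hx]; exact hC (h.mem hx)) fun x hx => by rw [e2 x hx]; exact hX hx)
  refine ⟨k', cMor_of hk' (img_mono g le_sup_right) (img_mono g le_sup_left) ((img_mono g h1).trans
    (hg.img_centralizerIn_le hX hC)) fun y hy => ?_, fun x hx => by rw [e x (Subgroup.mem_sup_left hx), e1 x hx]⟩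
  obtain ⟨x, hx, rfl⟩ := (hg.mono hX).mem_img.1 hy
  rw [e x (Subgroup.mem_sup_right hx), e2 x hx]

theorem isFactor_centSys [Finite S] (hg : Mor F R g) (hX : X ≤ R) (hC : centralizerIn S X ≤ R)
    (hc : Nat.card (centralizerIn S (img X g)) ≤ Nat.card (centralizerIn S X)) :
    IsFactor (centSys F X (hX.trans hg.le)) ⊥ g (centSys F (img X g) (hg.mono hX).img_le) := by
  have := finite_centralizerIn S (img X g)
  have e : img (centralizerIn S X) g = centralizerIn S (img X g) :=
    eq_of_le_of_card_le (hg.img_centralizerIn_le hX hC) (by rwa [hg.card_img_of_le hC])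
  refine isFactor_bot_of (hg.hom.mono hC) (hg.mono hC).injOn e (fun P f hf => ?_) fun P f' hP hf => ?_
  · obtain ⟨f', h1, h2⟩ := ((mor_centSys _).1 hf).conj_along hg hX hC
    exact ⟨f', (mor_centSys _).2 h1, h2⟩
  · obtain ⟨l, hl, i1, i2, -⟩ := hg.exists_inv
    have h0 := (mor_centSys _).1 hf
    obtain ⟨f, h1, h2⟩ := h0.conj_along hl (img_mono g hX) (e.ge.trans (img_mono g hC))
    rw [hg.hom.img_img_inv i1 hX, hg.hom.img_img_inv i1 (hP.trans hC)] at h1
    refine ⟨f, (mor_centSys _).2 h1, fun x hx => ?_⟩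
    have h3 := h2 _ (mem_img_of_mem g hx)
    rw [i1 x (hC (hP hx))] at h3
    rw [h3, i2 _ (img_mono g hC (e.ge (h0.mem (mem_img_of_mem g hx))))]

theorem sameMor_centSys_normSys (hX : X ≤ S) (hXY : X ≤ Y) (hY : Y ≤ normalizerIn S X) :
    SameMor (centSys (normSys F X hX) Y hY) (centSys F Y (hY.trans (normalizerIn_le S X))) := fun P f => by
  rw [mor_centSys, mor_centSys]
  refine ⟨fun h => h.sub' (normSys_sub F hX), fun ⟨h1, g, hg, e1, e2⟩ => ?_⟩
  have h2 := h1.trans ((centralizerIn_anti hXY).trans (centralizerIn_le_normalizerIn S X))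
  exact ⟨fun x hx => ⟨h2 hx, (h1 hx).2⟩, g, (mor_normSys hX).2 (nMor_of hg (hXY.trans le_sup_right) le_rfl (sup_le h2 hY)
    (img_eq_self_of_eqOn fun x hx => e2 x (hXY hx))), e1, e2⟩

theorem sameMor_centSys_centSys (hX : X ≤ S) (hXY : X ≤ Y) (hY : Y ≤ centralizerIn S X) :
    SameMor (centSys (centSys F X hX) Y hY) (centSys F Y (hY.trans (centralizerIn_le S X))) := fun P f => by
  rw [mor_centSys, mor_centSys]
  refine ⟨fun h => h.sub' (centSys_sub F hX), fun ⟨h1, g, hg, e1, e2⟩ => ?_⟩
  have h2 := h1.trans (centralizerIn_anti hXY)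
  exact ⟨fun x hx => ⟨h2 hx, (h1 hx).2⟩, g, (mor_centSys hX).2 (cMor_of hg (hXY.trans le_sup_right) le_rfl (sup_le h2 hY)
    fun x hx => e2 x (hXY hx)), e1, e2⟩

theorem exists_mod_of_mem_sup (hT : F.StronglyClosed T) (hX : X ≤ S) {y : Ω} (hy : y ∈ X ⊔ T) :
    ∃ x ∈ X, x⁻¹ * y ∈ T := by
  obtain ⟨x, hx, t, ht, rfl⟩ := (CfsgLib.Core.mem_sup_of_le_normalizer_right
    (hX.trans (le_normalizer_of_stronglyClosed hT))).1 hy
  exact ⟨x, hx, by simpa using ht⟩

variable [Finite S] [Fact p.Prime]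

theorem Mor.mem_sup_of_mem_sup (hf : Mor F P f) (hT : F.StronglyClosed T) (hX : X ≤ P) {y : Ω} (hy : y ∈ P)
    (h : y ∈ X ⊔ T) : f y ∈ img X f ⊔ T := by
  obtain ⟨x, hx, h1⟩ := exists_mod_of_mem_sup hT (hX.trans hf.le) h
  simpa using Subgroup.mul_mem _ (Subgroup.mem_sup_left (mem_img_of_mem f hx))
    (Subgroup.mem_sup_right (hf.congr_mod hT (hX hx) hy h1))

theorem fullyNormalized_sub_sup (hS : IsPGroup p S) (hF : F.IsSaturated p) (hT : F.StronglyClosed T)
    (hX : F.IsFullyNormalized X) {D : FusionSystem (X ⊔ T : Subgroup Ω)} (hD : D.IsSubsystemOf F) :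
    D.IsFullyNormalized X := by
  refine ⟨le_sup_left, fun Q hQ => ?_⟩
  have hR := le_of_isSubsystemOf hD
  have := finite_of_le hR
  have := finite_normalizerIn (X ⊔ T) X
  obtain ⟨f, hf, rfl⟩ := isConj_iff.1 hQ
  obtain ⟨g, hg, e⟩ := (hf.sub hD).exists_lift_mod hS hF hT
  have h1 : img X f ⊔ T = X ⊔ T := eq_of_le_of_card_le (sup_le hf.img_le le_sup_right) (by
    have := finite_of_le (sup_le hf.img_le le_sup_right : img X f ⊔ T ≤ X ⊔ T)
    rw [← hg.card_img]
    exact card_le_of_le (img_le_iff.2 (hg.hom.mem_of_sup (fun x hx => by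
      simpa using Subgroup.mul_mem _ (Subgroup.mem_sup_left (mem_img_of_mem f hx))
        (Subgroup.mem_sup_right (T.inv_mem (e x hx)))) fun x hx =>
      Subgroup.mem_sup_right (hg.mem_of_stronglyClosed hT (Subgroup.mem_sup_right hx) hx))))
  obtain ⟨ψ, hψ, eψ⟩ := sat_exists_mor_normalizerIn hS hF hX (isConj_symm (isConj_sub hD hQ))
  have h2 : normalizerIn (X ⊔ T) (img X f) ≤ normalizerIn S (img X f) := inf_le_inf_right _ hR
  have h3 := le_normalizerIn (hf.img_le.trans hR)
  rw [← hψ.card_img_of_le h2]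
  refine card_le_of_le (img_le_iff.2 fun y hy => ⟨?_, ?_⟩)
  · have h4 := hψ.mem_sup_of_mem_sup hT h3 (h2 hy) (h1.ge hy.1)
    rwa [eψ] at h4
  · have h4 := (hψ.mem_normalizerIn_img h3 (h2 hy) hy.2).2
    rwa [eψ] at h4

theorem invBy_prodSub {ℋ : Subgroup Ω → Prop} (hE : E.IsInvariantIn F) (hℋ : FamT p F T ℋ) {hT : F.StronglyClosed T}
    {hR : R ≤ S} (hTR : T ≤ R) {a : Ω → Ω} (ha : Mor F R a) (hm : ∀ x ∈ R, a x ∈ R) :
    InvBy (prodSub p E F hT ℋ hR) a := fun P f hf => by
  obtain ⟨r, hr, g, hg, e⟩ := exists_nm_of_mor_prodSub hE hℋ hf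
  obtain ⟨l, -, i1, -⟩ := ha.exists_inv
  have hP := hf.le
  have h1 : ∀ x ∈ P, g x ∈ R := fun x hx => by
    simpa using R.mul_mem (hP hx) (hTR ((hg.em hT).stab x hx))
  have h2 := (hg.conj_by hE hℋ ha (sup_le hP hTR) (g := a ∘ g ∘ l) fun x hx => by
    simp only [Function.comp, i1 x (hP hx)]).mor_prodSub (hT := hT) (hR := hR) hℋ hTR
      (img_le_iff.2 fun x hx => hm x (hP hx))
  refine ⟨_, h2.conj_left (hm r hr), fun x hx => ?_⟩
  simp only [Function.comp, i1 x (hP hx)]
  rw [e x hx, ha.map_conj hr (h1 x hx)]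

theorem stronglyClosed_normalizerIn_sup (hT : F.StronglyClosed T) (hX : X ≤ S) :
    (normSys F X hX).StronglyClosed (normalizerIn (X ⊔ T) X) := by
  refine stronglyClosed_iff.2 ⟨inf_le_inf_right _ (sup_le hX hT.1), fun P f hf x hx hx' => ?_⟩
  have h := (mor_normSys hX).1 hf
  obtain ⟨-, g, hg, e1, e2⟩ := id h
  refine ⟨?_, (h.mem hx).2⟩
  have h1 := hg.mem_sup_of_mem_sup hT le_sup_right (Subgroup.mem_sup_left hx) hx'.1
  rwa [e2, e1 x hx] at h1

/-- The subsystem `E X`. -/
abbrev prodElt (hE : E.IsNormalIn F p) (hX : X ≤ S) : FusionSystem (X ⊔ T : Subgroup Ω) :=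
  prodSub p E F (normalIn_stronglyClosed hE) (fun P => E.IsCentric (P ⊓ T))
    (sup_le hX (normalIn_stronglyClosed hE).1)

theorem normSys_prodElt_wnormal (hS : IsPGroup p S) (hE : E.IsNormalIn F p) (hX : F.IsFullyNormalized X) :
    (normSys (prodElt hE hX.1) X le_sup_left).IsWeaklyNormalIn (normSys F X hX.1) p := by
  have hT := normalIn_stronglyClosed hE
  have hF := hE.1.2.1
  have hR := sup_le hX.1 hT.1
  have := finite_of_le hR
  have := finite_of_le hX.1
  have := finite_normalizerIn S X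
  have hG := glueData_of_normal hS hE
  have hN := normSys_saturated hS hF hX
  have hsc := stronglyClosed_normalizerIn_sup hT hX.1
  refine ⟨normSys_saturated (hS.to_le hR) (hG.prodSub_saturated le_sup_right)
    (fullyNormalized_sub_sup hS hF hT hX prodSub_sub), hN, isInvariantIn_of_strongInv (hS.to_le (normalizerIn_le S X)) hN
    (isSubsystemOf_iff.2 fun P f hf => (mor_normSys _).2 (((mor_normSys _).1 hf).sub prodSub_sub)) hsc
    fun P Q f k hf hk hQ hPQ hm => ?_⟩
  obtain ⟨-, f₁, hf₁, e1, e2⟩ := (mor_normSys _).1 hf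
  obtain ⟨-, k₁, hk₁, e3, e4⟩ := (mor_normSys _).1 hk
  obtain ⟨g, a, hg, ha, e⟩ := exists_fratNM hS hF hG.inv hG.fam hk₁
  have hY : Q ⊔ X ≤ X ⊔ T := sup_le (hQ.trans (normalizerIn_le _ _)) le_sup_left
  have hgE := hg.em hT
  have ha' : Mor F (X ⊔ T) a := ha.mono (sup_le_sup_right le_sup_right T)
  have hPY := sup_le_sup_right hPQ X
  obtain ⟨f₂, hf₂, e5⟩ := inv_conj_exists (isInvariantIn_refl _) hf₁ (hg.mor_prodSub hG.fam le_sup_right hY) hPY
    (hf₁.hom.mem_of_sup (fun x hx => Subgroup.mem_sup_left (by rw [e1 x hx]; exact hm x hx))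
      fun x hx => Subgroup.mem_sup_right (e2.le (mem_img_of_mem f₁ hx)))
  obtain ⟨f₃, hf₃, e6⟩ := invBy_prodSub hG.inv hG.fam le_sup_right ha' (ha'.hom.mem_of_sup (fun x hx => by
    have hx' : x ∈ Q ⊔ X := Subgroup.mem_sup_right hx
    have h1 := ha.congr_mod hT (Subgroup.mem_sup_left hx') (hgE.mem_sup le_rfl hx') (hgE.stab x hx')
    rw [← e x hx'] at h1
    simpa using Subgroup.mul_mem _ (Subgroup.mem_sup_left (e4.le (mem_img_of_mem k₁ hx)))
      (Subgroup.mem_sup_right (T.inv_mem h1)))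
    fun x hx => Subgroup.mem_sup_right (ha'.mem_of_stronglyClosed hT (Subgroup.mem_sup_right hx) hx)) _ _ hf₂
  have e7 : ∀ y ∈ P ⊔ X, f₃ (k₁ y) = k₁ (f₁ y) := fun y hy => by
    rw [e y (hPY hy), e6 _ (mem_img_of_mem g hy), e5 y hy, ← e _ (hf₁.hom.mem_of_sup (fun x hx =>
      Subgroup.mem_sup_left (by rw [e1 x hx]; exact hm x hx))
      (fun x hx => Subgroup.mem_sup_right (e2.le (mem_img_of_mem f₁ hx))) y hy)]
  rw [(hgE.mor.mono hPY).img_img, img_congr (f := a ∘ g) (g := k₁) fun y hy => (e y (hPY hy)).symm,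
    (hk₁.mono hPY).img_sup, e4, img_congr fun x hx => e3 x (hPQ hx)] at hf₃
  refine ⟨f₃, (mor_normSys _).2 (nMor_of hf₃ le_sup_right le_sup_left ((hk.mono hPQ).img_le_of_stronglyClosed hsc
    (hPQ.trans hQ)) ((hf₃.mono le_sup_right).img_eq_self fun y hy => ?_)), fun x hx => ?_⟩
  · obtain ⟨x, hx, rfl⟩ := (hk₁.mono le_sup_right).mem_img.1 (e4.ge hy)
    rw [e7 x (Subgroup.mem_sup_right hx)]
    exact e4.le (mem_img_of_mem k₁ (e2.le (mem_img_of_mem f₁ hx)))
  · rw [← e3 x (hPQ hx), e7 x (Subgroup.mem_sup_left hx), e1 x hx, e3 _ (hm x hx)]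

theorem component_normSys_iff (hS : IsPGroup p S) (hF : F.IsSaturated p) (hX : F.IsFullyNormalized X) :
    C.IsComponentIn (normSys F X hX.1) p ↔ C.IsComponentIn (centSys F X hX.1) p := by
  have := finite_normalizerIn S X
  have hS' := hS.to_le (normalizerIn_le S X)
  have hN := normSys_saturated hS hF hX
  have h1 := centSys_isNormalIn hS' hN (isNormal_normSys F hX.1)
  have h2 := sameMor_centSys_normSys (F := F) hX.1 le_rfl (le_normalizerIn hX.1)
  exact ⟨fun h => h2.symm.ind (fun D => C.IsComponentIn D p) (componentIn_of_le hS' h h1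
    (component_centBy_of_isNormal hS' hN h (isNormal_normSys F hX.1)).le),
    fun h => componentIn_of_normalIn (h2.ind (fun D => C.IsComponentIn D p) h) h1⟩

theorem sub_of_sub_prodElt (hS : IsPGroup p S) (hE : E.IsNormalIn F p) (hX : X ≤ S) (hC : C.IsSaturated p)
    (hh : C.hyperfocalSubgroup p = V) (h : C.IsSubsystemOf (prodElt hE hX)) : C.IsSubsystemOf E := by
  have hG := glueData_of_normal hS hE
  have hR := sup_le hX hG.sc.1
  have := finite_of_le hR
  exact isSubsystemOf_of_pPowerIndex (hS.to_le hR) (hasPPowerIndexIn_prodSub hS hE le_sup_right) hC h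
    (hh.ge.trans ((hyperfocal_mono h p).trans (hyperfocal_prodSub_le hS hG.inv hG.fam)))

theorem component_normSys_sub (hS : IsPGroup p S) (hE : E.IsNormalIn F p) (hX : F.IsFullyNormalized X)
    (hC : C.IsComponentIn (normSys F X hX.1) p) (h : V ≤ X ⊔ T) : C.IsSubsystemOf E := by
  have := finite_normalizerIn S X
  have hS' := hS.to_le (normalizerIn_le S X)
  exact sub_of_sub_prodElt hS hE hX.1 hC.2.1 hC.2.2.1 (isSubsystemOf_trans (subnormalIn_sub (componentIn_of_le hS' hC
    (oppResSys_isNormalIn hS' (normSys_prodElt_wnormal hS hE hX)) fun x hx => ⟨h hx, (componentIn_le hC hx).2⟩).1)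
    (isSubsystemOf_trans (oppResSys_sub _ p) (normSys_sub _ _)))

/-- A component of a local subsystem lies in a given normal subsystem or centralizes it. -/
theorem component_normSys_le (hS : IsPGroup p S) (hE : E.IsNormalIn F p) (hX : F.IsFullyNormalized X)
    (hC : C.IsComponentIn (normSys F X hX.1) p) : V ≤ T ∨ V ≤ centE p E F := by
  have hT := normalIn_stronglyClosed hE
  have hF := hE.1.2.1
  refine downward_induction (S := S) (Φ := fun X => ∀ hX : F.IsFullyNormalized X, ∀ (V : Subgroup Ω)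
    (C : FusionSystem V), C.IsComponentIn (normSys F X hX.1) p → V ≤ T ∨ V ≤ centE p E F)
    (fun X _ ih hX V C hC => ?_) X hX.1 hX V C hC
  have := finite_normalizerIn S X
  have hS' := hS.to_le (normalizerIn_le S X)
  have hN := normSys_saturated hS hF hX
  have hK := oppResSys_isNormalIn hS' (normSys_prodElt_wnormal hS hE hX)
  rcases component_le_or_le_centE hS' hC hK with h | h
  · exact Or.inl (le_of_isSubsystemOf (component_normSys_sub hS hE hX hC (h.trans (normalizerIn_le _ _))))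
  by_cases hTX : T ≤ X
  · exact Or.inr (hC.2.2.1.ge.trans ((hyperfocal_le_focal C p).trans ((((component_centBy_of_isNormal hS' hN hC
      (isNormal_normSys F hX.1)).mono (normSys_sub F hX.1)).anti hTX).focal_le_centE hS hE)))
  obtain ⟨L, hL, hL', -⟩ := exists_centralizer_normalIn hS' hK
  have hsc := stronglyClosed_normalizerIn_sup hT hX.1
  set Y := normalizerIn (X ⊔ T) X with hY
  have hXY : X ≤ Y := le_normalizerIn le_sup_left
  have hYS := hsc.1.trans (normalizerIn_le S X)
  have := finite_of_le hYS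
  have := finite_centralizerIn (normalizerIn S X) Y
  have := finite_centralizerIn S Y
  have hLS := (normalIn_stronglyClosed hL).1
  have := finite_of_le hLS
  have h1 : C.IsComponentIn (centSys F Y hYS) p := (sameMor_centSys_normSys hX.1 hXY hsc.1).symm.ind
    (fun D => C.IsComponentIn D p) (componentIn_of_normalIn (componentIn_of_le (hS'.to_le hLS)
      (componentIn_of_le hS' hC hL h) (oppResSys_isNormalIn (hS'.to_le hLS) (isNormalIn_refl hL.1.1).1) h)
      (oppResSys_isNormalIn (hS'.to_le (centralizerIn_le _ _)) (wnormal_of_sub hS' hL.1 (centSys_saturated hS' hN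
        (sat_fullyCentralized hS' hN (fullyNormalized_of_le_normalizer hsc.1 (le_normalizer_of_stronglyClosed hsc))))
        ((centBy_iff_sub hsc.1).1 hL') (centSys_sub _ _))))
  obtain ⟨φ, hφ, hn⟩ := sat_exists_mor_fullyNormalized hS hF hYS
  have hYN := le_normalizerIn hYS
  have hCN := centralizerIn_le_normalizerIn S Y
  obtain ⟨ψ, hψ, eψ⟩ := sat_exists_mor_normalizerIn hS hF hX (isConj_symm (hφ.mono (hXY.trans hYN)).isConj)
  have h2 : img Y φ ≤ normalizerIn S (img X φ) := img_le_iff.2 fun y hy =>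
    hφ.mem_normalizerIn_img (hXY.trans hYN) (hYN hy) hy.2
  have h3 : img (img Y φ) ψ = Y := by
    rw [(hφ.mono hYN).img_img]
    exact ((mor_normSys hX.1).2 (nMor_of ((hφ.mono hYN).comp hψ fun y hy => h2 (mem_img_of_mem φ hy)) hXY le_rfl hsc.1
      (by rw [← (hφ.mono (hXY.trans hYN)).img_img, eψ]))).img_eq_of_stronglyClosed hsc
  have h4 := isFactor_centSys hφ hYN hCN (by
    simpa only [h3] using hψ.card_centralizerIn_le h2 ((centralizerIn_anti (img_mono φ hXY)).trans
      (centralizerIn_le_normalizerIn _ _)))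
  have hV := componentIn_le h1
  have := finite_of_le hV
  obtain ⟨C', hC'⟩ := h4.iso_exists_img_sub C hV
  obtain ⟨x, hxT, hxn, hxX⟩ := exists_mem_normalizer_of_not_le hS hX.1 hT.1
    (hX.1.trans (le_normalizer_of_stronglyClosed hT)) hTX
  have key : ∀ W, F.StronglyClosed W → img V φ ≤ W → V ≤ W := fun W hW h5 v hv =>
    (hφ.mem_stronglyClosed_iff hW (hCN (hV hv))).1 (h5 (mem_img_of_mem φ hv))
  refine (ih _ hn.1 ?_ hn _ C' ((component_normSys_iff hS hF hn).2 (h4.iso_isComponentIn
    (hS.to_le (centralizerIn_le _ _)) h1 hC'))).imp (key T hT) (key _ (stronglyClosed_centE hS hE))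
  rw [hφ.card_img_of_le hYN]
  exact card_lt_of_lt (lt_of_le_of_ne hXY fun h5 => hxX (h5.ge ⟨Subgroup.mem_sup_right hxT, hxn⟩))

theorem quasisimple_not_le_centralizer (hS : IsPGroup p S) (hC : C.Quasisimple p) (hV : V ≤ S) (h : V ≤ X) :
    ¬ V ≤ centralizerIn S X := fun h' =>
  have := finite_of_le hV
  quasisimple_not_comm (hS.to_le hV) hC fun _ hx _ hy => (mem_centralizerIn'.1 (h' hy)).2 _ (h hx)

theorem component_normSys_sub_layer (hS : IsPGroup p S) (hE : E.IsLayerOf F p) (hX : F.IsFullyNormalized X)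
    (hC : C.IsComponentIn (normSys F X hX.1) p) : C.IsSubsystemOf E := by
  obtain ⟨U, D, hD⟩ := exists_genFitting hS hE.1.1.2.1
  have hN := genFitting_normalIn hS hD
  have hU := (normalIn_stronglyClosed hN).1
  have := finite_of_le hU
  have := finite_of_le (core_le F)
  have := finite_normalizerIn S X
  have hV := (componentIn_le hC).trans (normalizerIn_le S X)
  have h1 := centE_genFitting_le hS hD
  obtain ⟨T', E', hE', h⟩ := genFitting_iff.1 hD
  have h2 := component_normSys_sub hS hN hX hC (((component_normSys_le hS hN hX hC).elim id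
    fun h2 => h2.trans (h1.trans h.le₁)).trans le_sup_right)
  exact component_normSys_sub hS hE.1 hX hC ((hC.2.2.1.ge.trans ((hyperfocal_mono h2 p).trans
    ((h.hyperfocal_le (hS.to_le hU) (inner_saturated (hS.to_le (core_le F))) (hyperfocal_innerFS
      (hS.to_le (core_le F)))).trans (le_of_isSubsystemOf (hE'.2.2 T E hE.1 hE.2.1))))).trans le_sup_right)

/-- E-balance. -/
theorem layer_normSys_sub (hS : IsPGroup p S) (hE : E.IsLayerOf F p) (hX : F.IsFullyNormalized X)
    {M : FusionSystem U} (hM : M.IsLayerOf (normSys F X hX.1) p) : M.IsSubsystemOf E := by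
  have := finite_normalizerIn S X
  have hS' := hS.to_le (normalizerIn_le S X)
  exact sub_of_sub_prodElt hS hE.1 hX.1 hM.1.1.1 (layer_hyperfocal hS' hM) (isSubsystemOf_trans (layer_sub_of_le hS' hM
    (oppResSys_isNormalIn hS' (normSys_prodElt_wnormal hS hE.1 hX)) fun V C hC x hx => ⟨Subgroup.mem_sup_right
      (le_of_isSubsystemOf (component_normSys_sub_layer hS hE hX hC) hx), (componentIn_le hC hx).2⟩)
    (isSubsystemOf_trans (oppResSys_sub _ p) (normSys_sub _ _)))

theorem normSys_constrained (hS : IsPGroup p S) (hF : F.IsConstrained p) (hX : F.IsFullyNormalized X) :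
    (normSys F X hX.1).IsConstrained p := by
  have := finite_normalizerIn S X
  obtain ⟨T, E, hE⟩ := exists_layer hS hF.1
  refine constrained_of_no_component (hS.to_le (normalizerIn_le S X)) (normSys_saturated hS hF.1 hX) fun V C hC => ?_
  have h1 := (le_of_isSubsystemOf (component_normSys_sub_layer hS hE hX hC)).trans (le_of_isSubsystemOf
    (hE.2.2 ⊥ _ (innerFS_isNormalIn hS hF.1 (isNormal_bot F)) fun V C hC =>
      (not_componentIn_of_constrained hS hF hC).elim))
  exact quasisimple_not_le_centralizer hS hC.2 (h1.trans bot_le) h1 fun x hx => by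
    rw [Subgroup.mem_bot.1 (h1 hx)]; exact Subgroup.one_mem _

theorem charPType_or_componentType (hS : IsPGroup p S) (hF : F.IsSaturated p) :
    F.IsOfCharacteristicPType p ∨ F.IsOfComponentType p := by
  refine or_iff_not_imp_right.2 fun h U hU hn N hN => ?_
  obtain rfl := eq_normSys hn.1 hN
  have := finite_normalizerIn S U
  have := finite_centralizerIn S U
  have hS' := hS.to_le (normalizerIn_le S U)
  have hUN := le_normalizerIn hn.1
  refine constrained_of_no_component hS' (normSys_saturated hS hF hn) fun V C hC => ?_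
  obtain ⟨z, hzU, hz, hz1⟩ := exists_mem_centralizerIn_ne_one hS' hUN inf_le_right hU
  obtain ⟨k, hk⟩ := exists_orderOf_of_mem_pGroup hS (hn.1 hzU)
  have hk0 : k ≠ 0 := fun h0 => hz1 (by simpa [h0] using hk)
  have hX : Subgroup.zpowers (z ^ (orderOf z / p)) ≤ U := Subgroup.zpowers_le.2 (U.pow_mem hzU _)
  have hc : Nat.card (Subgroup.zpowers (z ^ (orderOf z / p))) = p := by
    rw [Nat.card_zpowers, orderOf_pow_orderOf_div (by rw [hk]; exact pow_ne_zero _ (Fact.out : p.Prime).ne_zero)
      (by rw [hk]; exact dvd_pow_self p hk0)]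
  have hNX : normalizerIn S U ≤ centralizerIn S (Subgroup.zpowers (z ^ (orderOf z / p))) := fun x hx =>
    mem_centralizerIn'.2 ⟨hx.1, fun y hy => by
      obtain ⟨n, rfl⟩ := hy
      exact ((show Commute x z from (mem_centralizerIn'.1 hz).2 x hx).pow_right _ |>.zpow_right n).symm⟩
  set X := Subgroup.zpowers (z ^ (orderOf z / p))
  have hXS := hX.trans hn.1
  obtain ⟨φ, hφ, hX'⟩ := sat_exists_mor_fullyNormalized hS hF hXS
  have hN' := hNX.trans (centralizerIn_le_normalizerIn S X)
  have hφ' := hφ.mono hN'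
  have hCN := centralizerIn_le_normalizerIn S U
  have h1 := isFactor_centSys hφ' hUN hCN ((sat_fullyCentralized hS hF hn).2 _ (hφ'.mono hUN).isConj)
  have h2 := (component_normSys_iff hS hF hn).1 hC
  obtain ⟨C', hC'⟩ := h1.iso_exists_img_sub C (componentIn_le h2)
  have h3 := h1.iso_isComponentIn (hS.to_le (centralizerIn_le _ _)) h2 hC'
  have hK := centSys_saturated hS hF (sat_fullyCentralized hS hF hX')
  have := finite_centralizerIn S (img X φ)
  have hS'' := hS.to_le (centralizerIn_le S (img X φ))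
  have h4 : img (normalizerIn S U) φ ≤ centralizerIn S (img X φ) := (img_mono φ hNX).trans
    (hφ.img_centralizerIn_le (le_normalizerIn hXS) (centralizerIn_le_normalizerIn S X))
  have h5 := (img_mono φ hUN).trans h4
  have h6 : (centSys F _ hX'.1).IsFullyNormalized (img U φ) := ⟨h5, fun Q hQ => by
    have := finite_normalizerIn S Q
    have := finite_normalizerIn (centralizerIn S (img X φ)) (img U φ)
    refine (card_le_of_le (Q := normalizerIn S Q) (inf_le_inf_right _ (centralizerIn_le _ _))).trans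
      ((hn.2 Q (isConj_trans (hφ'.mono hUN).isConj (isConj_sub (centSys_sub _ _) hQ))).trans ?_)
    rw [← hφ'.card_img]
    exact card_le_of_le (le_inf h4 ((hφ'.img_normalizerIn_le hUN le_rfl).trans inf_le_right))⟩
  have := finite_normalizerIn (centralizerIn S (img X φ)) (img U φ)
  refine not_componentIn_of_constrained (hS''.to_le (normalizerIn_le _ _)) (normSys_constrained hS''
    (constrained_of_no_component hS'' hK fun V₁ C₁ h7 => h ⟨_, ?_, hX', _, isCentralizerSystem_centSys F hX'.1,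
      V₁, C₁, h7⟩) h6) ((component_normSys_iff hS'' hK h6).2 ((sameMor_centSys_centSys hX'.1 (img_mono φ hX) h5).ind
        (fun D => C'.IsComponentIn D p) h3))
  rw [hφ.card_img_of_le (le_normalizerIn hXS), hc]

end CfsgLib.Fusion
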