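import Mathlib
import Cfsg.Agent.Lib.Fusion.MetaAut
import Cfsg.Agent.Lib.Fusion.Essential
import Cfsg.Agent.Lib.Fusion.Normal
import Cfsg.Agent.Lib.Fusion.OpRes
import Cfsg.Agent.Lib.Fusion.Control
import Cfsg.Agent.Lib.PGroup.MaxClass2
import Cfsg.Agent.S0638

/-!
Strongly closed subgroups that are normal: a criterion through essential subgroups, and strongly
closed metacyclic subgroups.
-/

set_option autoImplicit false

namespace CfsgLib.Fusion

open Cfsg Cfsg.FusionSystem Subgroup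
open scoped commutatorElement

section Group

variable {G : Type*} [Group G] [Finite G] {p : ℕ} [hp : Fact p.Prime]

theorem exists_fixed_mem_coset (hG : IsPGroup p G) {q k : ℕ} [hq : Fact q.Prime] (hqp : q ≠ p)
    {γ : MulAut G} (hγ : γ ^ q ^ k = 1) {C : Subgroup G} (h : StabOn γ C ⊤) (y : G) :
    ∃ z, y⁻¹ * z ∈ C ∧ γ z = z := by
  have hinv : ∀ z : G, y⁻¹ * γ.toEquiv z ∈ C ↔ y⁻¹ * z ∈ C := fun z => by
    have h1 := h z (mem_top _)
    constructor
    · intro h2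
      simpa [mul_assoc] using C.mul_mem h2 (C.inv_mem h1)
    · intro h2
      simpa [mul_assoc] using C.mul_mem h2 h1
  classical
  have : Fintype G := Fintype.ofFinite G
  have hcard : Fintype.card {z : G // y⁻¹ * z ∈ C} = Nat.card C := by
    rw [← Nat.card_eq_fintype_card]
    exact Nat.card_congr ((Equiv.mulLeft y⁻¹).subtypeEquiv fun _ => Iff.rfl)
  obtain ⟨z, hz⟩ := Equiv.Perm.exists_fixed_point_of_prime (p := q) (n := k)
    (σ := Equiv.Perm.subtypePerm γ.toEquiv hinv) (by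
      obtain ⟨m, hm⟩ := IsPGroup.iff_card.1 (hG.to_subgroup C)
      rw [hcard, hm]
      exact fun hd => hqp ((Nat.prime_dvd_prime_iff_eq hq.out hp.out).1 (hq.out.dvd_of_dvd_pow hd)))
    (by
      rw [Equiv.Perm.subtypePerm_pow]
      ext z
      have h1 : (γ ^ q ^ k) (z : G) = z := by rw [hγ]; rfl
      have h2 := congrFun (congrArg DFunLike.coe (map_pow (MulAut.toPerm G) γ (q ^ k)).symm) (z : G)
      exact h2.trans h1)
  exact ⟨z, z.2, congrArg Subtype.val hz⟩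

omit hp in
/-- In a metacyclic group with an abelian subgroup `Q` of index two all of whose involutions are
squares, the action on `Q` modulo squares is trivial. -/
theorem exists_sq_of_isMetacyclic (hG : IsPGroup 2 G) (hm : IsMetacyclic G) {Q : Subgroup G}
    (hi : Q.index = 2) (hc : ∀ a ∈ Q, ∀ b ∈ Q, a * b = b * a)
    (hΩ : ∀ a ∈ Q, a ^ 2 = 1 → ∃ b ∈ Q, a = b ^ 2) (g : G) {a : G} (ha : a ∈ Q) :
    ∃ b ∈ Q, a⁻¹ * (g * a * g⁻¹) = b ^ 2 := by
  have hn := normal_of_index_eq_two hi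
  by_cases hg : g ∈ Q
  · exact ⟨1, Q.one_mem, by rw [hc g hg a ha]; simp⟩
  have hcj : ∀ y, y ∉ Q → ∀ a ∈ Q, g * a * g⁻¹ = y * a * y⁻¹ := fun y hy a ha => by
    have h1 : y⁻¹ * g ∈ Q := by rw [mul_mem_iff_of_index_two hi]; simp [hy, hg]
    calc g * a * g⁻¹ = y * ((y⁻¹ * g) * a) * g⁻¹ := by group
      _ = y * a * y⁻¹ := by rw [hc _ h1 a ha]; group
  obtain ⟨x, y, hx, hxy⟩ := CfsgLib.Metacyc.exists_gen_of_isMetacyclic hm
  by_cases hxQ : x ∈ Q
  · have hy : y ∉ Q := fun hy => hg (by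
      obtain ⟨i, j, rfl⟩ := hxy g
      exact Q.mul_mem (Q.pow_mem hxQ i) (Q.pow_mem hy j))
    obtain ⟨i, j, rfl⟩ := hxy a
    obtain ⟨r, hr, e⟩ := CfsgLib.Metacyc.exists_conj_eq_pow Nat.prime_two hG
      (pow_mem (mem_zpowers x) i) y
    obtain ⟨s, rfl⟩ : ∃ s, r = 2 * s + 1 := ⟨r / 2, by unfold Nat.ModEq at hr; omega⟩
    have hyj : y ^ j ∈ Q := (Q.mul_mem_cancel_left (Q.pow_mem hxQ i)).1 ha
    refine ⟨(x ^ i) ^ s, Q.pow_mem (Q.pow_mem hxQ i) s, ?_⟩
    have h1 : y * (x ^ i * y ^ j) * y⁻¹ = y * x ^ i * y⁻¹ * y ^ j := by group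
    rw [hcj y hy _ ha, h1, e, hc _ (Q.pow_mem (Q.pow_mem hxQ i) _) _ hyj, hc _ (Q.pow_mem hxQ i) _ hyj]
    group
  · rw [hcj x hxQ a ha]
    have hcQ : a⁻¹ * (x * a * x⁻¹) ∈ Q := Q.mul_mem (Q.inv_mem ha) (hn.conj_mem a ha x)
    refine hΩ _ hcQ ?_
    have h1 : a⁻¹ * (x * a * x⁻¹) ∈ zpowers x := by
      have := (zpowers x).mul_mem (hx.conj_mem' x (mem_zpowers x) a) ((zpowers x).inv_mem (mem_zpowers x))
      simpa [mul_assoc] using this
    have h2 := (CfsgLib.Metacyc.commute_of_mem_zpowers h1 (mem_zpowers x)).eq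
    have h3 := hc _ (sq_mem_of_index_two hi x) a ha
    set c := a⁻¹ * (x * a * x⁻¹) with hcdef
    have h4 : x * a = a * c * x := by rw [hcdef]; group
    have h5 : x ^ 2 * a = a * c ^ 2 * x ^ 2 := by
      calc x ^ 2 * a = x * (x * a) := by rw [sq, mul_assoc]
        _ = x * (a * c * x) := by rw [h4]
        _ = (x * a) * c * x := by simp only [mul_assoc]
        _ = a * c * (x * c) * x := by rw [h4]; simp only [mul_assoc]
        _ = a * c ^ 2 * x ^ 2 := by rw [← h2]; simp only [mul_assoc, sq]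
    rw [h3, mul_left_inj, left_eq_mul] at h5
    exact h5

omit hp in
theorem maximal_class_cases {n : ℕ} (hG : Nat.card G = 2 ^ n) (hn : 3 ≤ n)
    (hc : Group.nilpotencyClass G = n - 1) :
    (∃ k, Nonempty (G ≃* DihedralGroup (2 ^ (k + 2)))) ∨
      (∃ k, Nonempty (G ≃* QuaternionGroup (2 ^ (k + 1)))) ∨ IsQuasiDihedral G := by
  obtain ⟨k, rfl⟩ := Nat.exists_eq_add_of_le' hn
  rcases CfsgLib.PGroup.dihedral_or_semidihedral_or_quaternion_of_index_commutator hG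
    ((CfsgLib.PGroup.maximal_class_iff_index_commutator_eq_four hn hG).1 hc) with h | h | ⟨h1, h⟩
  exacts [Or.inl ⟨k, h⟩, Or.inr (Or.inl ⟨k, h⟩), Or.inr (Or.inr ⟨k + 2, by omega, hG, h⟩)]

end Group

variable {Ω : Type*} [Group Ω] {S : Subgroup Ω} [Finite S] {p : ℕ} [hp : Fact p.Prime]
  {F : FusionSystem S} {E P V : Subgroup Ω} {g : Ω}

omit [Finite S] hp in
theorem mem_normalizer_sc_inf (hP : F.StronglyClosed P) (hgS : g ∈ S)
    (hg : g ∈ Subgroup.normalizer (E : Set Ω)) :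
    g ∈ Subgroup.normalizer ((P ⊓ E : Subgroup Ω) : Set Ω) :=
  inf_normalizer_le_normalizer_inf ⟨le_normalizer_of_stronglyClosed hP hgS, hg⟩

/-- An element of a strongly closed subgroup `P` normalizing an essential subgroup `E` and acting
on `P ⊓ E` through `O_p(Aut_F(P ⊓ E))` lies in `E`. -/
theorem essential_mem_of_copStab_inf (hS : IsPGroup p S) (hF : F.IsSaturated p)
    (hE : F.IsEssential p E) (hP : F.StronglyClosed P) (hgP : g ∈ P)
    (hg : g ∈ Subgroup.normalizer (E : Set Ω))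
    (h : CopStab p (F.autGroup (P ⊓ E)) (frattini ↥(P ⊓ E)) ⊤
      (conjAut (P ⊓ E) g (mem_normalizer_sc_inf hP (hP.1 hgP) hg))) : g ∈ E := by
  have hES := hE.1.1
  have := finite_of_le hES
  have := finite_of_le (inf_le_right.trans hES : P ⊓ E ≤ S)
  obtain ⟨K, -, k2, k3, k4⟩ := h.exists_normal_pGroup (hS.to_le (inf_le_right.trans hES))
  have hres : ∀ β ∈ F.autGroup E, ∃ α ∈ F.autGroup (P ⊓ E), orderOf α ∣ orderOf β ∧
      ∀ x ∈ P ⊓ E, extAut α x = extAut β x := fun β hβ =>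
    exists_restrict_aut hES inf_le_right hβ fun x hx =>
      ⟨((mem_autGroup hES).1 hβ).mem_of_stronglyClosed hP hx.2 hx.1, extAut_mem β hx.2⟩
  have hinv : AInv (F.autGroup E) (P.subgroupOf E) := aInv_subgroupOf_of_mor hES
    fun f hf _ x hx hxP => hf.mem_of_stronglyClosed hP hx hxP
  have hA := conjAut_mem_autGroup F hES (hP.1 hgP) hg
  refine essential_mem_of_copStab hS hF hE (hP.1 hgP) hg (CopStab.mono (X := ⊥) (CopStab.trans
    (hS.to_le hES) bot_le ⟨F.autGroup E ⊓ resK E (P ⊓ E) K, inf_le_left,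
      le_normalizer_of_conj_mem ?_, ⟨hA, _, k3, fun x hx => ?_⟩, ?_⟩
    (StabOn.copStab (fun y _ => ?_) hA hinv (aInv_top _))) bot_le le_rfl)
  · rintro a ha β ⟨hβ, β', hβ', e⟩
    obtain ⟨a', ha', -, ea⟩ := hres a ha
    refine ⟨Subgroup.mul_mem _ (Subgroup.mul_mem _ ha hβ) (Subgroup.inv_mem _ ha), a' * β' * a'⁻¹,
      (mem_normalizer_iff.1 (k2 ha') β').1 hβ', fun x hx => ?_⟩
    have h1 : extAut a⁻¹ x = extAut a'⁻¹ x := by
      conv_lhs => rw [← extAut_apply_inv a' x, ea _ (extAut_mem a'⁻¹ hx), extAut_inv_apply]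
    rw [extAut_mul_apply, extAut_mul_apply, extAut_mul_apply, extAut_mul_apply, h1,
      e _ (extAut_mem a'⁻¹ hx), ea _ (extAut_mem β' (extAut_mem a'⁻¹ hx))]
  · rw [extAut_conjAut _ hx.2, extAut_conjAut _ hx]
  · rintro β ⟨hβ, β', hβ', e⟩ hc
    obtain ⟨α, -, ho, ea⟩ := hres β hβ
    obtain rfl : α = β' := aut_ext fun x hx => (ea x hx).trans (e x hx)
    have h1 : (⟨α, hβ'⟩ : K) = 1 := eq_one_of_pow_coprime k4 (hc.coprime_dvd_left ho)
      (Subtype.ext (pow_orderOf_eq_one α))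
    refine stabOn_bot_iff.2 fun y hy => Subtype.ext ?_
    rw [coe_eq_extAut, e y ⟨hy, y.2⟩, show α = 1 from congrArg Subtype.val h1, extAut_one_apply]
  · rw [mem_subgroupOf, Subgroup.coe_mul, Subgroup.coe_inv, coe_conjAut]
    exact step_of_normalizer_right (le_normalizer_of_stronglyClosed hP (hES y.2)) hgP

theorem isNormal_of_forall_essential_mem (hS : IsPGroup p S) (hF : F.IsSaturated p)
    (hP : F.StronglyClosed P) (h : ∀ E, F.IsEssential p E → ∀ g ∈ P,
      g ∈ Subgroup.normalizer (E : Set Ω) → g ^ p ∈ E → g ∈ E) : F.IsNormal P := by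
  have := finite_of_le hP.1
  refine isNormal_of_le_essential hS hF (weaklyClosed_of_stronglyClosed hP) fun E hE => ?_
  by_contra hle
  obtain ⟨x, hx, hxn, hxE⟩ := exists_mem_normalizer_of_not_le hS hE.1.1 hP.1
    (hE.1.1.trans (le_normalizer_of_stronglyClosed hP)) hle
  obtain ⟨n, hn⟩ := exists_pow_eq_one_of_isPGroup hS
  obtain ⟨j, h1, h2⟩ := CfsgLib.PGroup.exists_pow_not_mem_pow_mem (p := p) (k := n)
    (hn x (hP.1 hx) ▸ E.one_mem) hxE
  exact h1 (h E hE _ (P.pow_mem hx _) (pow_mem hxn _) h2)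

/-- `P ⊓ E` is self-centralizing in `P`. -/
theorem essential_inf_centralizer_le (hS : IsPGroup p S) (hF : F.IsSaturated p)
    (hE : F.IsEssential p E) (hP : F.StronglyClosed P) :
    P ⊓ centralizer ((P ⊓ E : Subgroup Ω) : Set Ω) ≤ E := by
  by_contra hle
  obtain ⟨x, hx, hxn, hxE⟩ := exists_mem_normalizer_of_not_le hS hE.1.1 (inf_le_left.trans hP.1)
    (fun e he => inf_normalizer_le_normalizer_inf ⟨le_normalizer_of_stronglyClosed hP (hE.1.1 he),
      CfsgLib.Core.normalizer_le_normalizer_centralizer _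
        (mem_normalizer_sc_inf hP (hE.1.1 he) (le_normalizer he))⟩) hle
  refine hxE (essential_mem_of_copStab_inf hS hF hE hP hx.1 hxn (StabOn.copStab
    ((stabOn_bot_iff.2 fun y _ => Subtype.ext ?_).mono bot_le le_rfl) (conjAut_mem_autGroup F
      (inf_le_left.trans hP.1) (hP.1 hx.1) _) (aInv_frattini _) (aInv_top _)))
  rw [coe_conjAut, ← hx.2 y y.2, mul_inv_cancel_right]

/-- Inversion on a normal subgroup containing all elements of order `p` of `P` is not a fusion map,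
unless `P` centralizes it. -/
theorem le_centralizer_of_mor_inv (hS : IsPGroup p S) (hF : F.IsSaturated p) (hp2 : p ≠ 2)
    (hP : F.StronglyClosed P) (hVP : V ≤ P) (hn : S ≤ Subgroup.normalizer (V : Set Ω))
    (hΩ : ∀ x ∈ P, x ^ p = 1 → x ∈ V) (hf : Mor F V fun x => x⁻¹) :
    P ≤ centralizer (V : Set Ω) := by
  have := finite_of_le hP.1
  have := finite_of_le (hVP.trans hP.1)
  have := finite_mulAut' P
  have : Fact (Nat.Prime 2) := ⟨Nat.prime_two⟩
  have e : img V (fun x => x⁻¹) = V := hf.img_eq_self fun x hx => V.inv_mem hx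
  obtain ⟨f, hf', ef⟩ := hf.extend_to (R := P) (e.symm ▸ sat_receptive_of_fullyNormalized hS hF
    (fullyNormalized_of_le_normalizer (hVP.trans hP.1) hn)) fun a ha =>
      ⟨hP.1 ha, hn (hP.1 ha), a, hP.1 ha, fun x _ => by group⟩
  obtain ⟨β, -, eβ⟩ := hf'.exists_aut (hf'.img_eq_of_stronglyClosed hP)
  obtain ⟨k, m, ⟨j, rfl⟩, hm⟩ := Nat.exists_eq_two_pow_mul_odd (orderOf_pos β).ne'
  have hβ : ∀ x : P, (x : Ω) ∈ V → β x = x⁻¹ := fun x hx =>
    Subtype.ext (by rw [coe_eq_extAut, eβ _ x.2, ef _ hx]; rfl)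
  have hγ : ∀ x : P, (x : Ω) ∈ V → (β ^ (2 * j + 1)) x = x⁻¹ := fun x hx => by
    have h2 : ∀ i, (β ^ (2 * i)) x⁻¹ = x⁻¹ := fun i => by
      induction i with
      | zero => rfl
      | succ i ih => rw [mul_add, pow_add, mul_one, sq, MulAut.mul_apply, MulAut.mul_apply,
          hβ x⁻¹ (V.inv_mem hx), inv_inv, hβ x hx, ih]
    rw [pow_succ, MulAut.mul_apply, hβ x hx, h2]
  intro g hg
  obtain ⟨z, hz, hzf⟩ := exists_fixed_mem_coset (hS.to_le hP.1) (q := 2) (k := k) (Ne.symm hp2)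
    (γ := β ^ (2 * j + 1)) (by rw [← pow_mul, mul_comm, ← hm, pow_orderOf_eq_one])
    (C := (centralizer (V : Set Ω)).subgroupOf P) (fun y _ x hx => by
      have h1 := hγ (y * ⟨x, hVP hx⟩⁻¹ * y⁻¹)
        (conj_mem_of_mem_normalizer (hn (hP.1 y.2)) (V.inv_mem hx))
      rw [map_mul, map_mul, map_inv, hγ ⟨x, hVP hx⟩ hx, map_inv] at h1
      have h2 := congrArg Subtype.val h1
      generalize (β ^ (2 * j + 1)) y = w at h2 ⊢
      simp only [Subgroup.coe_mul, Subgroup.coe_inv, inv_inv, mul_inv_rev] at h2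
      change x * ((y : Ω)⁻¹ * w) = (y : Ω)⁻¹ * w * x
      calc x * ((y : Ω)⁻¹ * w) = (y : Ω)⁻¹ * (y * (x * (y : Ω)⁻¹)) * w := by group
        _ = _ := by rw [← h2]; group) ⟨g, hg⟩
  obtain rfl : z = 1 := by
    by_contra h1
    obtain ⟨n, hn'⟩ := hS.to_le hP.1 z
    obtain ⟨i, h2, h3⟩ := CfsgLib.PGroup.exists_pow_not_mem_pow_mem (N := ⊥) (p := p) (k := n)
      (mem_bot.2 hn') (mt mem_bot.1 h1)
    have h4 := hγ _ (hΩ _ (z ^ p ^ i).2 (congrArg Subtype.val (mem_bot.1 h3)))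
    rw [map_pow, hzf] at h4
    exact h2 (mem_bot.2 (eq_one_of_pow_coprime (hS.to_le hP.1)
      ((Nat.coprime_primes Nat.prime_two hp.out).2 (Ne.symm hp2))
      (by rw [sq, ← eq_inv_iff_mul_eq_one, ← h4])))
  simpa [mem_subgroupOf] using hz

/-- For odd `p`, strongly closed metacyclic subgroups are normal. -/
theorem isNormal_of_isMetacyclic_odd (hS : IsPGroup p S) (hF : F.IsSaturated p)
    (hP : F.StronglyClosed P) (hp2 : p ≠ 2) (hm : IsMetacyclic P) : F.IsNormal P := by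
  have := finite_of_le hP.1
  by_cases hc : IsCyclic P
  · exact isNormal_of_comm hS hF hP fun x hx y hy =>
      congrArg Subtype.val (mul_comm' (⟨x, hx⟩ : P) ⟨y, hy⟩)
  obtain ⟨⟨h1, h2⟩, h3⟩ := Cfsg.Agent.S0638.result hp2 (hS.to_le hP.1) hm hc
  set V := (omegaOne p (⊤ : Subgroup P)).map P.subtype with hVdef
  have hV : ∀ x, x ∈ V ↔ x ∈ P ∧ x ^ p = 1 := fun x =>
    ⟨by rintro ⟨y, hy, rfl⟩; exact ⟨y.2, congrArg Subtype.val (h2 y hy)⟩,
      fun h => ⟨⟨x, h.1⟩, subset_closure ⟨trivial, Subtype.ext h.2⟩, rfl⟩⟩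
  have hVP : V ≤ P := map_subtype_le _
  have hVc : ∀ x ∈ V, ∀ y ∈ V, x * y = y * x := by
    rintro _ ⟨x, hx, rfl⟩ _ ⟨y, hy, rfl⟩
    exact congrArg Subtype.val (CfsgLib.PGroup.isMulCommutative_iff.1 h1 x hx y hy)
  have hVs : F.StronglyClosed V := stronglyClosed_iff.2 ⟨hVP.trans hP.1, fun R f hf x hx hxV =>
    (hV _).2 ⟨hf.mem_of_stronglyClosed hP hx (hVP hxV), by
      rw [← hf.hom.map_pow hx, ((hV x).1 hxV).2, hf.map_one]⟩⟩
  have hVn := isNormal_of_comm hS hF hVs hVc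
  have hE2 : ElemTwo p V := ⟨fun a b => Subtype.ext (hVc _ a.2 _ b.2),
    fun a => Subtype.ext ((hV _).1 a.2).2, by rw [card_map_of_injective P.subtype_injective, h3]⟩
  have := hE2.finite
  have hN := le_normalizer_of_stronglyClosed hVs
  have hZ : F.StronglyClosed (V ⊓ centralizer (P : Set Ω)) := by
    refine stronglyClosed_of_isNormal (isNormal_of_invariant hVn inf_le_left fun f hf e => ?_)
    have := finite_of_le (inf_le_left : V ⊓ centralizer (P : Set Ω) ≤ V)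
    refine (hf.mono inf_le_left).img_eq_self fun z hz =>
      mem_inf.2 ⟨e.le (mem_img_of_mem f hz.1), ?_⟩
    by_contra hne
    obtain ⟨α, hα, eα⟩ := hf.exists_aut e
    obtain ⟨g, hg, hgz⟩ : ∃ g ∈ P, g * f z ≠ f z * g := by
      by_contra h
      push Not at h
      exact hne h
    have hu := conjAut_mem_autGroup F hVs.1 (hP.1 hg) (hN (hP.1 hg))
    set u := conjAut V g (hN (hP.1 hg)) with hudef
    have hup : IsPGroup p (zpowers u) := (isPGroup_autInducedBy hS V).to_le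
      (zpowers_le.2 (conjAut_mem_autInducedBy _ (hP.1 hg)))
    have huz : u ⟨z, hz.1⟩ = ⟨z, hz.1⟩ := Subtype.ext (by
      rw [coe_conjAut, hz.2 g hg, mul_inv_cancel_right])
    have hαz : ((α ⟨z, hz.1⟩ : V) : Ω) = f z := by rw [coe_eq_extAut, eα z hz.1]
    have hu1 : u ≠ 1 := fun h => hgz (by
      have := congrArg Subtype.val (DFunLike.congr_fun h (α ⟨z, hz.1⟩))
      rw [coe_conjAut, MulAut.one_apply, hαz, mul_inv_eq_iff_eq_mul] at this
      exact this)
    obtain ⟨φ, -, hr, hφ, -⟩ := hE2.exists_SL2 hup hu1 (u' := α * u * α⁻¹) (by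
      rw [← MulAut.conj_apply, ← MulEquiv.coe_toMonoidHom, ← MonoidHom.map_zpowers]
      exact hup.map _) (by simpa using hu1) (v := ⟨z, hz.1⟩) (w := α ⟨z, hz.1⟩)
      (fun h => hne (by rw [show z = 1 from congrArg Subtype.val h, hf.map_one]; exact one_mem _))
      (fun ⟨i, hi⟩ => hne (by
        rw [← hαz, ← hi]; exact zpow_mem (mem_inf.1 hz).2 i)) huz (by simp [huz])
    have hA : φ (-1) ∈ F.autGroup V := (hr.le.trans ((closure_le _).2 (by
      rintro _ (rfl | rfl)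
      exacts [hu, Subgroup.mul_mem _ (Subgroup.mul_mem _ hα hu) (Subgroup.inv_mem _ hα)]))) ⟨-1, rfl⟩
    have hinv : Mor F V fun x => x⁻¹ := ((mem_autGroup hVs.1).1 hA).congr fun x hx => by
      obtain ⟨a, b, e'⟩ := hE2.exists_coord (v := ⟨z, hz.1⟩) (w := α ⟨z, hz.1⟩)
        (fun h => hne (by rw [show z = 1 from congrArg Subtype.val h, hf.map_one]; exact one_mem _))
        (fun ⟨i, hi⟩ => hne (by rw [← hαz, ← hi]; exact zpow_mem (mem_inf.1 hz).2 i)) ⟨x, hx⟩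
      rw [extAut_apply _ hx]
      change _ = (((⟨x, hx⟩ : V)⁻¹ : V) : Ω)
      rw [← e', hφ, mul_inv_rev, (hE2.comm _ _).eq]
      simp [zpw_neg (hE2.pow _)]
    exact hgz (le_centralizer_of_mor_inv hS hF hp2 hP hVP hN (fun x hx h => (hV x).2 ⟨hx, h⟩) hinv hg
      _ (e.le (mem_img_of_mem f hz.1))).symm
  refine isNormal_of_forall_essential_mem hS hF hP fun E hE g hgP hg _ =>
    essential_mem_of_copStab_inf hS hF hE hP hgP hg ?_
  have hQS : P ⊓ E ≤ S := inf_le_left.trans hP.1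
  have := finite_of_le hQS
  have hQ := hS.to_le hQS
  have hA := conjAut_mem_autGroup F hQS (hP.1 hgP) (mem_normalizer_sc_inf hP (hP.1 hgP) hg)
  have hi : ∀ {X}, F.StronglyClosed X → AInv (F.autGroup (P ⊓ E)) (X.subgroupOf (P ⊓ E)) :=
    fun hX => aInv_subgroupOf_of_mor hQS fun f hf _ x hx hxP => hf.mem_of_stronglyClosed hX hx hxP
  have hst : ∀ y ∈ V, y⁻¹ * (g * y * g⁻¹) ∈ V ⊓ centralizer (P : Set Ω) := fun y hy => by
    obtain ⟨v, hv1, hv⟩ := hE2.exists_fixed (isPGroup_autInducedBy (hS.to_le hP.1) V)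
    obtain ⟨a, ha⟩ := hE2.exists_apply_eq ((isPGroup_autInducedBy (hS.to_le hP.1) V).to_le
      (zpowers_le.2 (conjAut_mem_autInducedBy (hN (hP.1 hgP)) hgP))) hv1
      (hv _ (conjAut_mem_autInducedBy _ hgP)) ⟨y, hy⟩
    have ha' := congrArg Subtype.val ha
    rw [coe_conjAut, (hE2.comm _ _).eq] at ha'
    rw [ha', Subgroup.coe_mul, inv_mul_cancel_left]
    refine zpow_mem (x := (v : Ω)) (mem_inf.2 ⟨v.2, fun h hh => ?_⟩) _
    have := congrArg Subtype.val (hv _ (conjAut_mem_autInducedBy (hN (hP.1 hh)) hh))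
    rwa [coe_conjAut, mul_inv_eq_iff_eq_mul] at this
  obtain ⟨K, k1, k2, k3, k4⟩ := CopStab.trans hQ bot_le
    (StabOn.copStab (stabOn_bot_iff.2 fun y hy => Subtype.ext (by
      rw [coe_conjAut, (mem_subgroupOf.1 hy).2 g hgP, mul_inv_cancel_right])) hA (aInv_bot _) (hi hZ))
    (StabOn.copStab (stabOn_conjAut_subgroupOf _ fun y _ hy => hst y hy) hA (hi hZ) (hi hVs))
  refine ⟨K, k1, k2, k3, fun β hβ hco => ?_⟩
  rw [CfsgLib.PGroup.aut_eq_one_of_fix_order_prime hp2 hQ hco fun x hx =>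
    stabOn_bot_iff.1 (k4 β hβ hco) x ((hV _).2 ⟨x.2.1, congrArg Subtype.val hx⟩)]
  exact stabOn_one _ _

omit hp in
/-- Strongly closed metacyclic `2`-subgroups are normal unless they are nonabelian of maximal
class. -/
theorem isNormal_of_isMetacyclic_two (hS : IsPGroup 2 S) (hF : F.IsSaturated 2)
    (hP : F.StronglyClosed P) (hm : IsMetacyclic P)
    (hd : ¬ ∃ k, Nonempty (P ≃* DihedralGroup (2 ^ (k + 2))))
    (hq : ¬ ∃ k, Nonempty (P ≃* QuaternionGroup (2 ^ (k + 1)))) (hsd : ¬ IsQuasiDihedral P) :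
    F.IsNormal P := by
  have : Fact (Nat.Prime 2) := ⟨Nat.prime_two⟩
  have := finite_of_le hP.1
  refine isNormal_of_forall_essential_mem hS hF hP fun E hE g hgP hg hg2 => ?_
  by_contra hgE
  have hQS : P ⊓ E ≤ S := inf_le_left.trans hP.1
  have := finite_of_le hQS
  have hQ := hS.to_le hQS
  have hgQ := mem_normalizer_sc_inf hP (hP.1 hgP) hg
  have hA := conjAut_mem_autGroup F hQS (hP.1 hgP) hgQ
  let eQ := subgroupOfEquivOfLe (inf_le_left : P ⊓ E ≤ P)
  obtain ⟨n, hn⟩ := IsPGroup.iff_card.1 (hS.to_le hP.1)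
  have hlt : Nat.card (P ⊓ E : Subgroup Ω) < 2 ^ n :=
    hn ▸ card_lt_of_lt (lt_of_le_of_ne inf_le_left fun h => hgE (h.ge hgP).2)
  have hC : centralizer ((P ⊓ E).subgroupOf P : Set P) ≤ (P ⊓ E).subgroupOf P := fun x hx =>
    ⟨x.2, essential_inf_centralizer_le hS hF hE hP ⟨x.2, fun y hy =>
      congrArg Subtype.val (hx ⟨y, hy.1⟩ hy)⟩⟩
  have hmax : 3 ≤ n → Group.nilpotencyClass P ≠ n - 1 := fun h3 h => by
    rcases maximal_class_cases hn h3 h with h | h | h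
    exacts [hd h, hq h, hsd h]
  rcases autDiag_of_isMetacyclic hQ (CfsgLib.PGroup.isMetacyclic_of_equiv eQ
    (CfsgLib.PGroup.isMetacyclic_subgroup hm _)) with ⟨k, hk, ⟨e⟩⟩ | ⟨-, ⟨e⟩⟩ | h
  · have hc : Nat.card (P ⊓ E : Subgroup Ω) = 2 ^ k * 2 ^ k := by
      rw [Nat.card_congr e.toEquiv]; simp
    by_cases hk1 : k = 1
    · subst hk1
      refine hmax ?_ (CfsgLib.PGroup.maximal_class_of_self_centralizing hn
        ((Nat.card_congr eQ.toEquiv).trans hc) hC)
      rw [hc, ← pow_add, Nat.pow_lt_pow_iff_right one_lt_two] at hlt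
      omega
    have hcm : ∀ a ∈ P ⊓ E, ∀ b ∈ P ⊓ E, a * b = b * a := fun a ha b hb =>
      congrArg Subtype.val (e.injective (a₁ := ⟨a, ha⟩ * ⟨b, hb⟩) (a₂ := ⟨b, hb⟩ * ⟨a, ha⟩)
        (by rw [map_mul, map_mul, mul_comm]))
    have hΩ : ∀ a ∈ P ⊓ E, a ^ 2 = 1 → ∃ b ∈ P ⊓ E, a = b ^ 2 := fun a ha h2 => by
      have key : ∀ x : Multiplicative (ZMod (2 ^ k)), x ^ 2 = 1 → ∃ y, x = y ^ 2 := fun x hx => by
        obtain ⟨m, hm⟩ := ZMod.intCast_surjective (Multiplicative.toAdd x)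
        have h1 : ((2 * m : ℤ) : ZMod (2 ^ k)) = 0 := by
          have := congrArg Multiplicative.toAdd hx
          rw [toAdd_pow, ← hm] at this
          simpa [two_mul, two_nsmul] using this
        obtain ⟨j, rfl⟩ : ∃ j, k = j + 2 := ⟨k - 2, by omega⟩
        obtain ⟨c, hc⟩ := (ZMod.intCast_zmod_eq_zero_iff_dvd _ _).1 h1
        refine ⟨Multiplicative.ofAdd ((2 ^ j * c : ℤ) : ZMod (2 ^ (j + 2))), Multiplicative.toAdd.injective ?_⟩
        rw [toAdd_pow, ← hm, toAdd_ofAdd,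
          show m = 2 * (2 ^ j * c) by push_cast at hc; rw [pow_add] at hc; linarith]
        simp [two_mul]
      have h3 : e ⟨a, ha⟩ ^ 2 = 1 := by
        rw [← map_pow, show (⟨a, ha⟩ : ↥(P ⊓ E)) ^ 2 = 1 from Subtype.ext h2, map_one]
      obtain ⟨y, hy⟩ := key _ (congrArg Prod.fst h3)
      obtain ⟨z, hz⟩ := key _ (congrArg Prod.snd h3)
      refine ⟨e.symm (y, z), (e.symm (y, z)).2, congrArg Subtype.val (e.injective (a₁ := ⟨a, ha⟩)
        (a₂ := e.symm (y, z) ^ 2) ?_)⟩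
      rw [map_pow, e.apply_symm_apply]
      exact Prod.ext hy hz
    have hRP : (P ⊓ E) ⊔ zpowers g ≤ P := sup_le inf_le_left (zpowers_le.2 hgP)
    have := finite_of_le (hRP.trans hP.1)
    refine hgE (essential_mem_of_copStab_inf hS hF hE hP hgP hg (StabOn.copStab (fun y _ => ?_) hA
      (aInv_frattini _) (aInv_top _)))
    obtain ⟨b, hb, eb⟩ := exists_sq_of_isMetacyclic (hS.to_le (hRP.trans hP.1))
      (CfsgLib.PGroup.isMetacyclic_of_equiv (subgroupOfEquivOfLe hRP)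
        (CfsgLib.PGroup.isMetacyclic_subgroup hm _)) (Q := (P ⊓ E).subgroupOf _)
      (CfsgLib.TwoGrp.relIndex_sup_zpowers hgQ ⟨P.mul_mem hgP hgP, sq g ▸ hg2⟩ fun h => hgE h.2)
      (fun a ha b hb => Subtype.ext (hcm _ ha _ hb)) (fun a ha h2 => by
        obtain ⟨b, hb, eb⟩ := hΩ _ ha (congrArg Subtype.val h2)
        exact ⟨⟨b, mem_sup_left hb⟩, hb, Subtype.ext eb⟩) ⟨g, mem_sup_right (mem_zpowers g)⟩
      (a := ⟨y, mem_sup_left y.2⟩) y.2
    have h1 : y⁻¹ * conjAut (P ⊓ E) g hgQ y = (⟨b, hb⟩ : ↥(P ⊓ E)) ^ 2 := Subtype.ext (by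
      rw [Subgroup.coe_mul, coe_conjAut]
      exact congrArg Subtype.val eb)
    exact h1 ▸ CfsgLib.PGroup.pow_mem_frattini hQ _
  · have hc : Nat.card (P ⊓ E : Subgroup Ω) = 2 ^ 3 := by
      rw [Nat.card_congr e.toEquiv, Nat.card_eq_fintype_card, QuaternionGroup.card]; rfl
    refine hmax ?_ (CfsgLib.PGroup.maximal_class_of_centralizer_le_of_card_eq_cube hn
      ((Nat.card_congr eQ.toEquiv).trans hc) (fun h => ?_) hC)
    · rw [hc, Nat.pow_lt_pow_iff_right one_lt_two] at hlt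
      omega
    · have := congrArg (eQ.trans e) (mul_comm' ((eQ.trans e).symm (QuaternionGroup.a 1))
        ((eQ.trans e).symm (QuaternionGroup.xa 0)))
      rw [map_mul, map_mul, MulEquiv.apply_symm_apply, MulEquiv.apply_symm_apply] at this
      exact absurd this (by decide)
  · refine hgE (essential_mem_of_copStab_inf hS hF hE hP hgP hg ⟨_, le_rfl, le_normalizer, hA,
      fun β _ hc => ?_⟩)
    rw [eq_one_of_pow_coprime h.isPGroup hc (pow_orderOf_eq_one β)]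
    exact stabOn_one _ _

theorem isNil_of_isNormal_top (hS : IsPGroup p S) (hF : F.IsSaturated p) (hn : F.IsNormal S)
    (hA : IsPGroup p (MulAut S)) : F = innerFusionSystem S :=
  eq_inner_of_isPGroup hS hF fun P hP => by
    obtain rfl : P = S := hP.elim id fun h => le_antisymm h.1.1 (le_of_isNormal_of_essential hS hn h)
    exact hA.to_subgroup _

end CfsgLib.Fusion
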