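import Mathlib
import Cfsg.Agent.Lib.Fusion.Resist
import Cfsg.Agent.Lib.Fusion.EssFour
import Cfsg.Agent.Lib.Fusion.Constr
import Cfsg.Agent.Lib.Core.MinNormal

/-!
Strongly closed generalized extraspecial subgroups.
-/

set_option autoImplicit false

namespace CfsgLib.Fusion

open Cfsg Cfsg.FusionSystem Subgroup
open scoped commutatorElement

theorem exists_type_zero_group (G : Type*) [Group G] [Finite G] :
    ∃ (E : Type) (_ : Group E), Nonempty (G ≃* E) :=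
  have : Small.{0} G := small_of_injective (Finite.equivFin G).injective
  ⟨Shrink.{0} G, inferInstance, ⟨(Shrink.mulEquiv (α := G)).symm⟩⟩

theorem exists_type_zero_commGroup (G : Type*) [Group G] [Finite G] (h : ∀ a b : G, a * b = b * a) :
    ∃ (E : Type) (_ : CommGroup E), Nonempty (G ≃* E) := by
  obtain ⟨E, i, ⟨e⟩⟩ := exists_type_zero_group G
  exact ⟨E, { i with mul_comm := fun a b => e.symm.injective (by rw [map_mul, map_mul, h]) }, ⟨e⟩⟩

/-- All commutators and `p`-th powers of the subgroup `P` lie in the central subgroup `⟨c⟩` of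
order `p`. -/
structure GenEx (p : ℕ) {G : Type*} [Group G] (P : Subgroup G) (c : G) : Prop where
  mem : c ∈ P
  ord : orderOf c = p
  cent : ∀ g ∈ P, Commute c g
  comm : ∀ g ∈ P, ∀ x ∈ P, x⁻¹ * (g * x * g⁻¹) ∈ zpowers c
  pow : ∀ x ∈ P, x ^ p ∈ zpowers c

namespace GenEx

variable {G : Type*} [Group G] {p : ℕ} [hp : Fact p.Prime] {P : Subgroup G} {c a b g w x y z : G}

omit hp in
theorem commute (h : GenEx p P c) (hz : z ∈ zpowers c) (hg : g ∈ P) : Commute z g := by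
  obtain ⟨i, rfl⟩ := hz
  exact (h.cent g hg).zpow_left i

theorem exists_pow_eq (h : GenEx p P c) (hy : y ∈ zpowers c) (h1 : y ≠ 1) (hz : z ∈ zpowers c) :
    ∃ i : ℕ, y ^ i = z := by
  have : Finite (zpowers c) := Nat.finite_of_card_ne_zero (by
    rw [Nat.card_zpowers, h.ord]; exact hp.out.ne_zero)
  obtain ⟨i, hi⟩ := CfsgLib.PGroup.exists_pow_eq_of_card_prime (G := zpowers c) (Z := ⊤) (p := p)
    (z := ⟨y, hy⟩) (y := ⟨z, hz⟩) (by rw [card_top, Nat.card_zpowers, h.ord]) trivial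
    (fun e => h1 (congrArg Subtype.val e)) trivial
  exact ⟨i, congrArg Subtype.val hi⟩

theorem exists_conj_pow (h : GenEx p P c) (hg : g ∈ P) (hx : x ∈ P) (hn : ¬ Commute g x)
    (hz : z ∈ zpowers c) : ∃ i : ℕ, g ^ i * x * (g ^ i)⁻¹ = x * z := by
  obtain ⟨i, rfl⟩ := h.exists_pow_eq (h.comm g hg x hx) (fun e => hn (by
    rw [inv_mul_eq_one, eq_mul_inv_iff_mul_eq] at e; exact e.symm)) hz
  refine ⟨i, ?_⟩
  have := CfsgLib.PGroup.pow_mul_eq_of_comm (c := g) (x := x) (d := x⁻¹ * (g * x * g⁻¹)) (by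
    rw [mul_assoc, ← (h.commute (h.comm g hg x hx) hg).eq]; group) (h.commute (h.comm g hg x hx) hg) i
  rw [this, mul_assoc x, ← ((h.commute (h.comm g hg x hx) hg).pow_pow i i).eq]
  group

theorem exists_commute (h : GenEx p P c) (hg : g ∈ P) (hx : x ∈ P) (hn : ¬ Commute g x)
    (ha : a ∈ P) : ∃ i : ℕ, Commute ((g ^ i)⁻¹ * a) x := by
  obtain ⟨i, hi⟩ := h.exists_conj_pow hg hx hn (h.comm a ha x hx)
  refine ⟨i, ?_⟩
  calc (g ^ i)⁻¹ * a * x = (g ^ i)⁻¹ * (x * (x⁻¹ * (a * x * a⁻¹))) * a := by group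
    _ = x * ((g ^ i)⁻¹ * a) := by rw [← hi]; group

/-- If `C_P(w)` is abelian, it is generated modulo the centre by any noncentral element. -/
theorem exists_central (h : GenEx p P c) (hw : w ∈ P)
    (hA : ∀ x ∈ P, ∀ y ∈ P, Commute x w → Commute y w → Commute x y) (hg : g ∈ P)
    (hgw : ¬ Commute g w) (hy : y ∈ P) (hyw : Commute y w) (hyZ : y ∉ centralizer (P : Set G))
    (hx : x ∈ P) (hxw : Commute x w) : ∃ k : ℕ, (y ^ k)⁻¹ * x ∈ centralizer (P : Set G) := by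
  have key : ∀ z ∈ P, Commute z w → Commute z g → z ∈ centralizer (P : Set G) :=
    fun z hz h1 h2 a ha => by
      obtain ⟨i, hi⟩ := h.exists_commute hg hw hgw ha
      have := (h2.pow_right i).mul_right
        (hA z hz _ (P.mul_mem (P.inv_mem (P.pow_mem hg i)) ha) h1 hi)
      rw [mul_inv_cancel_left] at this
      exact this.symm
  obtain ⟨k, hk⟩ := h.exists_commute hy hg (fun e => hyZ (key y hy hyw e)) hx
  exact ⟨k, key _ (P.mul_mem (P.inv_mem (P.pow_mem hy k)) hx) ((hyw.pow_left k).inv_left.mul_left hxw) hk⟩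

/-- The splitting `G = E × B`. -/
theorem exists_split [Finite G] (h : GenEx p ⊤ c) (hA : ∀ x y, Commute x w → Commute y w → Commute x y)
    (he : ∀ x, Commute x w → x ^ p = 1) (hgw : ¬ Commute g w) :
    ∃ B : Subgroup G, B ≤ center G ∧
      Nat.card (zpowers c ⊔ zpowers w ⊔ zpowers g : Subgroup G) = p ^ 3 ∧
      ¬ IsMulCommutative (zpowers c ⊔ zpowers w ⊔ zpowers g : Subgroup G) ∧
      Nonempty (G ≃* (zpowers c ⊔ zpowers w ⊔ zpowers g : Subgroup G) × B) := by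
  have hcZ : zpowers c ≤ center G := fun z hz => mem_center_iff.2 fun g =>
    (h.commute hz trivial).eq.symm
  have hc1 : c ≠ 1 := fun e => hp.out.one_lt.ne (by rw [← h.ord, e, orderOf_one])
  have hcm : ∀ x y : G, ⁅x, y⁆ ∈ zpowers c := fun x y => by
    simpa [commutatorElement_def, mul_assoc] using h.comm y trivial x⁻¹ trivial
  have hZ : ∀ z ∈ center G, z ^ p = 1 := fun z hz => he z (mem_center_iff.1 hz w).symm
  have n1 : (zpowers c).Normal := CfsgLib.Core.normal_of_le_center hcZ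
  have n2 : (zpowers c ⊔ zpowers w).Normal := CfsgLib.PGroup.normal_sup_zpowers (hcm w)
  have hw : w ∉ center G := fun e => hgw (mem_center_iff.1 e g)
  have hle : zpowers c ⊔ zpowers w ≤ centralizer {w} := sup_le
    (hcZ.trans (center_le_centralizer _)) (zpowers_le.2 (mem_centralizer_singleton_iff.2 rfl))
  set E := zpowers c ⊔ zpowers w ⊔ zpowers g with hE
  have hcard : Nat.card E = p ^ 3 := by
    rw [hE, CfsgLib.PGroup.card_sup_zpowers (p := p)
      (fun e => hgw (mem_centralizer_singleton_iff.1 (hle e))) (mem_sup_left (h.pow g trivial)),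
      CfsgLib.PGroup.card_sup_zpowers (p := p) (fun e => hw (hcZ e)) (h.pow w trivial),
      Nat.card_zpowers, h.ord]
    ring
  have hwE : w ∈ E := mem_sup_left (mem_sup_right (mem_zpowers w))
  have hgE : g ∈ E := mem_sup_right (mem_zpowers g)
  have hcE : zpowers c ≤ E := le_sup_left.trans le_sup_left
  have hna : ¬ IsMulCommutative E := fun e =>
    hgw (CfsgLib.PGroup.isMulCommutative_iff.1 e g hgE w hwE)
  obtain ⟨B, -, ⟨hB, hcB⟩, hmax⟩ := CfsgLib.PGroup.exists_maximal_ge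
    (fun B : Subgroup G => B ≤ center G ∧ c ∉ B) (A := ⊥) ⟨bot_le, mt mem_bot.1 hc1⟩
  have nB : B.Normal := CfsgLib.Core.normal_of_le_center hB
  have hZB : center G ≤ zpowers c ⊔ B := fun z hz => by
    by_contra hzB
    have : c ∈ B ⊔ zpowers z := by
      by_contra h'
      exact hzB (mem_sup_right ((hmax _ ⟨sup_le hB (zpowers_le.2 hz), h'⟩ le_sup_left).le
        (mem_sup_right (mem_zpowers z))))
    obtain ⟨b, hb, k, e⟩ := CfsgLib.PGroup.mem_sup_zpowers_iff.1 this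
    obtain ⟨l, rfl⟩ := dvd_of_zpow_mem_of_pow_mem hzB (hZ z hz ▸ Subgroup.one_mem _) (i := k) (by
      rw [eq_inv_mul_of_mul_eq e]
      exact Subgroup.mul_mem _ (mem_sup_right (B.inv_mem hb)) (mem_sup_left (mem_zpowers c)))
    rw [zpow_mul, zpow_natCast, hZ z hz, _root_.one_zpow, mul_one] at e
    exact hcB (e ▸ hb)
  refine ⟨B, hB, hcard, hna, nonempty_equiv_prod (fun a _ b hb => mem_center_iff.1 (hB hb) a) ?_ ?_⟩
  · have h1 : zpowers c = (center E).map E.subtype := eq_of_le_of_card_ge (fun z hz =>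
      ⟨⟨z, hcE hz⟩, mem_center_iff.2 fun a => Subtype.ext (mem_center_iff.1 (hcZ hz) a), rfl⟩) (by
        rw [card_map_of_injective E.subtype_injective, card_center_of_card_cube hcard hna,
          Nat.card_zpowers, h.ord])
    rw [eq_bot_iff]
    rintro z ⟨hzE, hzB⟩
    by_contra hz1
    obtain ⟨i, hi⟩ := h.exists_pow_eq (y := z) (h1.ge ⟨⟨z, hzE⟩, mem_center_iff.2 fun a =>
      Subtype.ext (mem_center_iff.1 (hB hzB) a), rfl⟩) hz1 (mem_zpowers c)
    exact hcB (hi ▸ B.pow_mem hzB i)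
  · rw [eq_top_iff]
    intro a _
    obtain ⟨i, hi⟩ := h.exists_commute trivial trivial hgw (mem_top a)
    obtain ⟨k, hk⟩ := h.exists_central (mem_top w) (fun x _ y _ => hA x y) trivial hgw trivial
      (Commute.refl w) (fun e => hgw (e g trivial)) trivial hi
    have h1 := sup_le_sup_right hcE B (hZB (mem_center_iff.2 fun b => hk b trivial))
    have h2 := Subgroup.mul_mem _ (mem_sup_left (E.mul_mem (E.pow_mem hgE i) (E.pow_mem hwE k))) h1
    simpa [mul_assoc] using h2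

theorem exists_dihedral [Finite G] (h : GenEx 2 ⊤ c)
    (hA : ∀ x y, Commute x w → Commute y w → Commute x y) (he : ∀ x, Commute x w → x ^ 2 = 1)
    (hgw : ¬ Commute g w) :
    ∃ (A : Type) (_ : CommGroup A), (∀ a : A, a ^ 2 = 1) ∧ Nonempty (G ≃* DihedralGroup 4 × A) := by
  have : Fact (Nat.Prime 2) := ⟨Nat.prime_two⟩
  have hc2 : c * c = 1 := by rw [← sq, ← h.ord, pow_orderOf_eq_one]
  have hc1 : c ≠ 1 := fun e => by simpa [e] using h.ord
  have hZ : ∀ z ∈ zpowers c, z ≠ 1 → z = c := fun z hz h1 =>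
    eq_of_mem_card_two (by rw [Nat.card_zpowers, h.ord]) hz (mem_zpowers c) h1 hc1
  have hww : w * w = 1 := by rw [← sq, he w (Commute.refl w)]
  have hwg : ∀ g, ¬ Commute g w → (w * g) * (w * g) = c * (g * g) := fun g hg => by
    rw [← hZ _ (h.comm g trivial w trivial) fun e => hg (by
      rw [inv_mul_eq_one, eq_mul_inv_iff_mul_eq] at e; exact e.symm), inv_eq_of_mul_eq_one_right hww]
    group
  wlog hg : g * g = 1 generalizing g
  · refine this (g := w * g) (fun e => hgw ?_) ?_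
    · simpa using ((Commute.refl w).inv_left.mul_left e)
    · rw [hwg g hgw, hZ _ (sq g ▸ h.pow g trivial) hg, hc2]
  obtain ⟨B, hB, -, -, ⟨e⟩⟩ := h.exists_split hA he hgw
  obtain ⟨A, _, ⟨eA⟩⟩ := exists_type_zero_commGroup B fun a b =>
    Subtype.ext (mem_center_iff.1 (hB b.2) a)
  have hr : (w * g) * (w * g) = c := by rw [hwg g hgw, hg, mul_one]
  obtain ⟨eD⟩ := CfsgLib.TwoGrp.nonempty_sup_mulEquiv_dihedral (r := w * g) (s := g) (n := 4)
    (orderOf_eq_prime_pow (p := 2) (n := 1) (by rwa [pow_one, sq, hr])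
      (by rw [show 2 ^ (1 + 1) = 2 * 2 from rfl, pow_mul, sq (w * g), hr, sq, hc2])) hg
    (by rw [mul_inv_rev, inv_eq_of_mul_eq_one_right hww, inv_eq_of_mul_eq_one_right hg, mul_assoc,
      mul_assoc, hg, mul_one])
    (fun ⟨i, hi⟩ => hgw (by
      have : Commute (w * g) g := by
        have := (Commute.refl (w * g)).zpow_right i
        rwa [show (w * g) ^ i = g from hi] at this
      simpa using (this.mul_left (Commute.refl g).inv_left).symm))
  have hE : zpowers c ⊔ zpowers w ⊔ zpowers g = zpowers (w * g) ⊔ zpowers g := by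
    refine le_antisymm (sup_le (sup_le (zpowers_le.2 ?_) (zpowers_le.2 ?_)) le_sup_right)
      (sup_le (zpowers_le.2 (Subgroup.mul_mem _ (mem_sup_left (mem_sup_right (mem_zpowers w)))
        (mem_sup_right (mem_zpowers g)))) le_sup_right)
    · exact hr ▸ mem_sup_left (Subgroup.mul_mem _ (mem_zpowers _) (mem_zpowers _))
    · simpa using Subgroup.mul_mem _ (mem_sup_left (T := zpowers g) (mem_zpowers (w * g)))
        (mem_sup_right (Subgroup.inv_mem _ (mem_zpowers g)))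
  refine ⟨A, inferInstance, fun a => ?_,
    ⟨e.trans (((MulEquiv.subgroupCongr hE).trans eD).prodCongr eA)⟩⟩
  obtain ⟨b, rfl⟩ := eA.surjective a
  rw [← map_pow, show b ^ 2 = 1 from Subtype.ext (he _ (mem_center_iff.1 (hB b.2) w).symm), map_one]

theorem mul_pow (h : GenEx p P c) (hp2 : p ≠ 2) (hx : x ∈ P) (hy : y ∈ P) :
    (x * y) ^ p = x ^ p * y ^ p := by
  have h1 := h.comm y⁻¹ (P.inv_mem hy) x⁻¹ (P.inv_mem hx)
  have h2 := (zpowers c).inv_mem (h.comm x⁻¹ (P.inv_mem hx) y hy)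
  refine CfsgLib.PGroup.mul_pow_prime_class_two hp.out hp2 (c := (y⁻¹ * (x⁻¹ * y * x⁻¹⁻¹))) (by group)
    (h.commute (h.comm _ (P.inv_mem hx) y hy) hx) (h.commute (h.comm _ (P.inv_mem hx) y hy) hy) ?_
  exact pow_eq_one_of_card (by rw [Nat.card_zpowers, h.ord]) (h.comm _ (P.inv_mem hx) y hy)

theorem exists_extraspecial [Finite G] (h : GenEx p ⊤ c) (hp2 : p ≠ 2)
    (hA : ∀ x y, Commute x w → Commute y w → Commute x y) (he : ∀ x, Commute x w → x ^ p = 1)
    (hgw : ¬ Commute g w) (hg : g ^ p = 1) :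
    ∃ (E : Type) (_ : Group E) (A : Type) (_ : CommGroup A), IsExtraspecial p E ∧
      Nat.card E = p ^ 3 ∧ Monoid.exponent E = p ∧ (∀ a : A, a ^ p = 1) ∧ Nonempty (G ≃* E × A) := by
  have hexp : ∀ a : G, a ^ p = 1 := fun a => by
    obtain ⟨i, hi⟩ := h.exists_commute trivial trivial hgw (mem_top a)
    rw [← mul_inv_cancel_left (g ^ i) a, h.mul_pow hp2 trivial trivial, he _ hi, pow_right_comm, hg,
      one_pow, one_mul]
  obtain ⟨B, hB, hc, hna, ⟨e⟩⟩ := h.exists_split hA he hgw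
  obtain ⟨A, _, ⟨eA⟩⟩ := exists_type_zero_commGroup B fun a b =>
    Subtype.ext (mem_center_iff.1 (hB b.2) a)
  obtain ⟨E, _, ⟨eE⟩⟩ := exists_type_zero_group (zpowers c ⊔ zpowers w ⊔ zpowers g : Subgroup G)
  have : Finite E := Finite.of_equiv _ eE.toEquiv
  have hcE : Nat.card E = p ^ 3 := (Nat.card_congr eE.toEquiv).symm.trans hc
  have hnaE : ¬ IsMulCommutative E := fun H => hna ⟨⟨fun a b => eE.injective (by
    rw [map_mul, map_mul, mul_comm'])⟩⟩
  have : Nontrivial E := by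
    by_contra H
    rw [not_nontrivial_iff_subsingleton] at H
    exact hnaE ⟨⟨fun _ _ => Subsingleton.elim _ _⟩⟩
  refine ⟨E, inferInstance, A, inferInstance, isExtraspecial_of_card_cube hcE hnaE, hcE,
    (Monoid.exponent_eq_prime_iff hp.out).2 fun a ha => orderOf_eq_prime ?_ ha, fun a => ?_,
    ⟨e.trans (eE.prodCongr eA)⟩⟩
  · obtain ⟨b, rfl⟩ := eE.surjective a
    rw [← map_pow, show b ^ p = 1 from Subtype.ext (hexp b), map_one]
  · obtain ⟨b, rfl⟩ := eA.surjective a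
    rw [← map_pow, show b ^ p = 1 from Subtype.ext (hexp b), map_one]

omit hp in
theorem top (h : GenEx p P c) : GenEx p (⊤ : Subgroup P) ⟨c, h.mem⟩ := by
  have key : ∀ z : P, (z : G) ∈ zpowers c → z ∈ zpowers (⟨c, h.mem⟩ : P) :=
    fun z ⟨i, hi⟩ => ⟨i, Subtype.ext hi⟩
  exact ⟨trivial, (Subgroup.orderOf_coe _).symm.trans h.ord, fun g _ => Subtype.ext (h.cent g g.2),
    fun g _ x _ => key _ (h.comm g g.2 x x.2), fun x _ => key _ (h.pow x x.2)⟩

end GenEx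

variable {Ω : Type*} [Group Ω] {S : Subgroup Ω} [Finite S] {p : ℕ} [hp : Fact p.Prime]
  {F : FusionSystem S} {P : Subgroup Ω} {c w : Ω}

/-- The centralizer of a fused element is elementary abelian. -/
theorem GenEx.fused (h : GenEx p P c) (hS : IsPGroup p S) (hF : F.IsSaturated p)
    (hP : F.StronglyClosed P) (hc : ∀ s ∈ S, Commute c s) {R : Subgroup Ω} {f : Ω → Ω}
    (hf : Mor F R f) (hcR : c ∈ R) (hw : f c ∉ zpowers c) :
    ∃ ψ, Mor F (P ⊓ centralizer {f c}) ψ ∧ ψ (f c) = c ∧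
      (∀ x ∈ P, Commute x (f c) → x ^ p = 1) ∧
      ∀ x ∈ P, ∀ y ∈ P, Commute x (f c) → Commute y (f c) → Commute x y := by
  have hf' := hf.mono (zpowers_le.2 hcR)
  obtain ⟨k, hk, e1, -, -, e2⟩ := hf'.exists_inv
  obtain ⟨ψ, hψ, eψ⟩ := sat_extend_centralizer hS hF hk (e2.symm ▸ fullyCentralized_of_le_centralizer
    (zpowers_le.2 (hP.1 h.mem)) fun s hs z ⟨i, hi⟩ => hi ▸ ((hc s hs).zpow_left i).eq)
  have hle : P ⊓ centralizer {f c} ≤ img (zpowers c) f ⊔ centralizerIn S (img (zpowers c) f) :=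
    fun x hx => mem_sup_right (mem_centralizerIn'.2 ⟨hP.1 hx.1, fun y hy => by
      obtain ⟨_, ⟨i, rfl⟩, rfl⟩ := hf'.mem_img.1 hy
      rw [hf'.hom.map_zpow (mem_zpowers c)]
      exact ((show Commute (f c) x from (mem_centralizer_singleton_iff.1 hx.2).symm).zpow_left i).eq⟩)
  have hψ' := hψ.mono hle
  have hwP : f c ∈ P := hf.mem_of_stronglyClosed hP hcR h.mem
  have hψw : ψ (f c) = c := by rw [eψ _ (mem_img_of_mem f (mem_zpowers c)), e1 c (mem_zpowers c)]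
  have hmem : ∀ {x}, x ∈ P → Commute x (f c) → x ∈ P ⊓ centralizer {f c} := fun hx hx' =>
    ⟨hx, mem_centralizer_singleton_iff.2 hx'⟩
  have hZ : zpowers c ≤ P ⊓ centralizer {f c} := zpowers_le.2 (hmem h.mem (h.cent _ hwP))
  have key : ∀ z ∈ zpowers c, ψ z ∈ zpowers c → z = 1 := fun z hz hz' => by
    by_contra h1
    have := finite_of_le (hZ.trans (inf_le_left.trans hP.1))
    have h2 := (hψ'.mono hZ).img_eq_self fun y hy => by
      obtain ⟨i, rfl⟩ := h.exists_pow_eq hz h1 hy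
      rw [hψ'.hom.map_pow (hZ hz)]
      exact pow_mem hz' i
    exact hw ((hψ'.mem_img_iff hZ (hmem hwP (Commute.refl _))).1 (by
      rw [h2, hψw]; exact mem_zpowers c))
  have hψP : ∀ {x}, x ∈ P ⊓ centralizer {f c} → ψ x ∈ P := fun hx =>
    hψ'.mem_of_stronglyClosed hP hx hx.1
  refine ⟨ψ, hψ', hψw, fun x hx hx' => key _ (h.pow x hx) ?_, fun x hx y hy hx' hy' => ?_⟩
  · rw [hψ'.hom.map_pow (hmem hx hx')]
    exact h.pow _ (hψP (hmem hx hx'))
  · have := key _ (h.comm x hx y hy) (by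
      have hx'' := hmem hx hx'
      have hy'' := hmem hy hy'
      rw [hψ'.hom.map_mul (Subgroup.inv_mem _ hy'') (conj_mem_of_mem_normalizer (le_normalizer hx'') hy''),
        hψ'.map_inv hy'', hψ'.map_conj hx'' hy'']
      exact h.comm _ (hψP hx'') _ (hψP hy''))
    rw [inv_mul_eq_one, eq_mul_inv_iff_mul_eq] at this
    exact this.symm

theorem GenEx.exists_pow_eq_one (h : GenEx p P c) (hS : IsPGroup p S) (hF : F.IsSaturated p)
    (hP : F.StronglyClosed P) (hc : ∀ s ∈ S, Commute c s) (hp2 : p ≠ 2)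
    (hna : ¬ P ≤ centralizer (P : Set Ω)) {R : Subgroup Ω} {f : Ω → Ω}
    (hf : Mor F R f) (hcR : c ∈ R) (hw : f c ∉ zpowers c) :
    ∃ g ∈ P, ¬ Commute g (f c) ∧ g ^ p = 1 := by
  have hnc : ∀ {R : Subgroup Ω} {f : Ω → Ω}, Mor F R f → c ∈ R → f c ∉ zpowers c →
      ∃ g ∈ P, ¬ Commute g (f c) := fun hf hcR hw => by
    obtain ⟨-, -, -, -, hA⟩ := h.fused hS hF hP hc hf hcR hw
    by_contra H
    push Not at H
    exact hna fun x hx y hy => hA y hy x hx (H y hy) (H x hx)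
  by_contra H
  push Not at H
  obtain ⟨ψ, hψ, hψw, he, hA⟩ := h.fused hS hF hP hc hf hcR hw
  obtain ⟨g, hg, hgw⟩ := hnc hf hcR hw
  have hwP : f c ∈ P := hf.mem_of_stronglyClosed hP hcR h.mem
  generalize f c = w at *
  set V := P ⊓ centralizer {w} with hVdef
  have hV : ∀ {x}, x ∈ V ↔ x ∈ P ∧ Commute x w := and_congr_right fun _ =>
    mem_centralizer_singleton_iff
  have hV' : ∀ {x}, x ∈ V ↔ x ∈ P ∧ x ^ p = 1 := fun {x} => hV.trans (and_congr_right fun hx =>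
    ⟨he x hx, fun e => by_contra fun e' => H x hx e' e⟩)
  have hVS : V ≤ S := inf_le_left.trans hP.1
  have := finite_of_le hVS
  have hVs : F.StronglyClosed V := stronglyClosed_iff.2 ⟨hVS, fun R f hf x hx hxV =>
    hV'.2 ⟨hf.mem_of_stronglyClosed hP hx hxV.1, by
      rw [← hf.hom.map_pow hx, (hV'.1 hxV).2, hf.map_one]⟩⟩
  have hN := le_normalizer_of_stronglyClosed hVs
  obtain ⟨α, hα, eα⟩ := hψ.exists_aut (hψ.img_eq_of_stronglyClosed hVs)
  have hcV : c ∈ V := hV.2 ⟨h.mem, h.cent w hwP⟩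
  have hwV : w ∈ V := hV.2 ⟨hwP, Commute.refl w⟩
  have hcm : ∀ x y : V, x * y = y * x := fun x y =>
    Subtype.ext (hA _ x.2.1 _ y.2.1 (hV.1 x.2).2 (hV.1 y.2).2)
  let inst : CommGroup V := { (inferInstance : Group V) with mul_comm := hcm }
  have hαw : α ⟨w, hwV⟩ = ⟨c, hcV⟩ := Subtype.ext (by rw [coe_eq_extAut, eα w hwV, hψw])
  have hαc : ((α ⟨c, hcV⟩ : V) : Ω) = ψ c := by rw [coe_eq_extAut, eα c hcV]
  have hψc : ψ c ∉ zpowers c := fun e => by
    have hZ : zpowers c ≤ V := zpowers_le.2 hcV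
    have := finite_of_le (hZ.trans hVS)
    have h2 := (hψ.mono hZ).img_eq_self fun y ⟨i, hi⟩ => by
      rw [← hi, hψ.hom.map_zpow hcV]
      exact zpow_mem e i
    exact hw ((hψ.mem_img_iff hZ hwV).1 (by rw [h2, hψw]; exact mem_zpowers c))
  obtain ⟨g', hg', hgc⟩ := hnc hψ hcV hψc
  obtain ⟨i, hi⟩ := h.exists_conj_pow hg hwP hgw (mem_zpowers c)
  obtain ⟨j, hj⟩ := h.exists_conj_pow hg' (hψ.mem_of_stronglyClosed hP hcV h.mem) hgc
    ((zpowers c).inv_mem (mem_zpowers c))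
  set u := conjAut V (g ^ i) (hN (hP.1 (P.pow_mem hg i))) with hu
  set u' := conjAut V (g' ^ j) (hN (hP.1 (P.pow_mem hg' j))) with hu'
  have hfix : ∀ a (ha : a ∈ P) (x : V), (x : Ω) ∈ centralizer (P : Set Ω) →
      conjAut V a (hN (hP.1 ha)) x = x := fun a ha x hx => Subtype.ext (by
    rw [coe_conjAut, hx a ha, mul_inv_cancel_right])
  have hcZ : c ∈ centralizer (P : Set Ω) := fun a ha => (h.cent a ha).eq.symm
  have u1 : u ⟨c, hcV⟩ = ⟨c, hcV⟩ := hfix _ (P.pow_mem hg i) _ hcZ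
  have u2 : u ⟨w, hwV⟩ = ⟨w, hwV⟩ * ⟨c, hcV⟩ := Subtype.ext (by rw [coe_conjAut, hi]; rfl)
  have u3 : (α⁻¹ * u' * α) ⟨w, hwV⟩ = ⟨w, hwV⟩ := by
    rw [MulAut.mul_apply, MulAut.mul_apply, hαw, hfix _ (P.pow_mem hg' j) _ hcZ, ← hαw,
      MulAut.inv_apply_self]
  have u4 : (α⁻¹ * u' * α) ⟨c, hcV⟩ = ⟨c, hcV⟩ * ⟨w, hwV⟩⁻¹ := by
    have : u' (α ⟨c, hcV⟩) = α (⟨c, hcV⟩ * ⟨w, hwV⟩⁻¹) := Subtype.ext (by
      rw [coe_conjAut, map_mul, map_inv, hαw, Subgroup.coe_mul, hαc, hj]; rfl)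
    rw [MulAut.mul_apply, MulAut.mul_apply, this, MulAut.inv_apply_self]
  have huA : u ∈ F.autGroup V := conjAut_mem_autGroup F hVS (hP.1 (P.pow_mem hg i)) _
  have huA' : α⁻¹ * u' * α ∈ F.autGroup V := Subgroup.mul_mem _ (Subgroup.mul_mem _
    (Subgroup.inv_mem _ hα) (conjAut_mem_autGroup F hVS (hP.1 (P.pow_mem hg' j)) _)) hα
  have u5 : ∀ x : V, (x : Ω) ∈ centralizer (P : Set Ω) → ((α x : V) : Ω) ∈ centralizer (P : Set Ω) →
      u x = x ∧ (α⁻¹ * u' * α) x = x := fun x h1 h2 => ⟨hfix _ (P.pow_mem hg i) _ h1, by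
    rw [MulAut.mul_apply, MulAut.mul_apply, hfix _ (P.pow_mem hg' j) _ h2, MulAut.inv_apply_self]⟩
  generalize α⁻¹ * u' * α = v at u3 u4 u5 huA'
  set b := u * v * u * (u * v * u) with hb
  have hbA : b ∈ F.autGroup V := Subgroup.mul_mem _
    (Subgroup.mul_mem _ (Subgroup.mul_mem _ huA huA') huA)
    (Subgroup.mul_mem _ (Subgroup.mul_mem _ huA huA') huA)
  have n1 : (u * v * u) ⟨c, hcV⟩ = ⟨w, hwV⟩⁻¹ := by
    rw [MulAut.mul_apply, MulAut.mul_apply, u1, u4, map_mul, map_inv, u1, u2, mul_inv_rev,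
      mul_inv_cancel_left]
  have n2 : (u * v * u) ⟨w, hwV⟩ = ⟨c, hcV⟩ := by
    rw [MulAut.mul_apply, MulAut.mul_apply, u2, map_mul, u3, u4, hcm, inv_mul_cancel_right, u1]
  have b1 : b ⟨c, hcV⟩ = ⟨c, hcV⟩⁻¹ := by rw [hb, MulAut.mul_apply, n1, map_inv, n2]
  have b2 : b ⟨w, hwV⟩ = ⟨w, hwV⟩⁻¹ := by rw [hb, MulAut.mul_apply, n2, n1]
  have b3 : ∀ x : V, ((x * b x : V) : Ω) ∈ centralizer (P : Set Ω) := fun x => by
    obtain ⟨k, hk⟩ := h.exists_central hwP hA hg hgw hwP (Commute.refl w) (fun e => hgw (e g hg))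
      x.2.1 (hV.1 x.2).2
    obtain ⟨l, hl⟩ := h.exists_central hwP hA hg hgw (α ⟨c, hcV⟩).2.1 (hV.1 (α ⟨c, hcV⟩).2).2
      (fun e => hgc (hαc ▸ e g' hg')) (α ((⟨w, hwV⟩ ^ k)⁻¹ * x)).2.1
      (hV.1 (α ((⟨w, hwV⟩ ^ k)⁻¹ * x)).2).2
    have h1 : (((⟨c, hcV⟩ ^ l)⁻¹ * ((⟨w, hwV⟩ ^ k)⁻¹ * x) : V) : Ω) ∈ centralizer (P : Set Ω) :=
      Subgroup.mul_mem _ (Subgroup.inv_mem _ (pow_mem hcZ l)) hk
    obtain ⟨h2, h3⟩ := u5 _ h1 (by rw [map_mul, map_inv, map_pow]; exact hl)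
    generalize hy : ((⟨c, hcV⟩ ^ l)⁻¹ * ((⟨w, hwV⟩ ^ k)⁻¹ * x) : V) = y at h1 h2 h3
    have h4 : b y = y := by simp only [hb, MulAut.mul_apply, h2, h3]
    have h5 : x = ⟨w, hwV⟩ ^ k * (⟨c, hcV⟩ ^ l * y) := by rw [← hy]; group
    have h6 : x * b x = y * y := by
      rw [h5, map_mul, map_mul, map_pow, map_pow, b1, b2, h4, inv_pow, inv_pow, mul_mul_mul_comm,
        mul_inv_cancel, one_mul, mul_mul_mul_comm, mul_inv_cancel, one_mul]
    exact h6 ▸ Subgroup.mul_mem _ h1 h1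
  have b4 : ∀ z (hz : z ∈ zpowers c), extAut b z = z⁻¹ := by
    rintro _ ⟨n, rfl⟩
    have := congrArg Subtype.val (map_zpow b ⟨c, hcV⟩ n)
    rw [b1, coe_eq_extAut] at this
    simpa using this
  have hbm := (mem_autGroup hVS).1 hbA
  have b5 : ∀ a ∈ P, ∀ x ∈ V, extAut b (a * x * a⁻¹) = a * extAut b x * a⁻¹ := fun a ha x hx => by
    have h1 := h.comm a ha x hx.1
    have h2 := b3 ⟨x, hx⟩ a ha
    rw [Subgroup.coe_mul, coe_eq_extAut] at h2
    have h3 := h.commute ((zpowers c).inv_mem h1) (extAut_mem b hx).1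
    rw [← mul_inv_cancel_left x (a * x * a⁻¹), hbm.hom.map_mul hx (zpowers_le.2 hcV h1), b4 _ h1,
      ← h3.eq]
    calc (x⁻¹ * (a * x * a⁻¹))⁻¹ * extAut b x = a * x⁻¹ * a⁻¹ * (x * extAut b x * a) * a⁻¹ := by group
      _ = _ := by rw [← h2]; group
  obtain ⟨β, hβ, eβ⟩ := hbm.extend_to (R := P) ((img_extAut b).symm ▸
    sat_receptive_of_fullyNormalized hS hF (fullyNormalized_of_le_normalizer hVS hN))
    fun a ha => ⟨hP.1 ha, hN (hP.1 ha), a, hP.1 ha, b5 a ha⟩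
  have hβg := hβ.mem_of_stronglyClosed hP hg hg
  have h1 : Commute (g⁻¹ * β g) w := by
    have h2 := hβ.map_conj hg hwP
    have h3 : extAut b w = w⁻¹ := (extAut_apply b hwV).trans (congrArg Subtype.val b2)
    rw [eβ _ (conj_mem_of_mem_normalizer (hN (hP.1 hg)) hwV), b5 g hg w hwV, eβ w hwV, h3] at h2
    refine Commute.inv_right_iff.1 ?_
    calc g⁻¹ * β g * w⁻¹ = g⁻¹ * (β g * w⁻¹ * (β g)⁻¹) * β g := by group
      _ = _ := by rw [← h2]; group
  have h2 := hβ.hom.map_pow hg p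
  rw [eβ _ (zpowers_le.2 hcV (h.pow g hg)), b4 _ (h.pow g hg), ← mul_inv_cancel_left g (β g),
    h.mul_pow hp2 hg (P.mul_mem (P.inv_mem hg) hβg), he _ (P.mul_mem (P.inv_mem hg) hβg) h1,
    mul_one, inv_eq_iff_mul_eq_one, ← sq] at h2
  exact H g hg hgw (congrArg Subtype.val (eq_one_of_pow_coprime hS
    ((Nat.coprime_primes Nat.prime_two hp.out).2 (Ne.symm hp2))
    (x := ⟨g ^ p, hP.1 (P.pow_mem hg p)⟩) (Subtype.ext h2)))

theorem isNormal_of_genExtraspecial (hS : IsPGroup p S) (hF : F.IsSaturated p)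
    (hP : F.StronglyClosed P) (h1 : frattini P = _root_.commutator P)
    (h2 : Nat.card (_root_.commutator P) = p)
    (hD : p = 2 → ¬ ∃ (A : Type) (_ : CommGroup A), (∀ a : A, a ^ 2 = 1) ∧
      Nonempty (P ≃* DihedralGroup 4 × A))
    (hE : p ≠ 2 → ¬ ∃ (E : Type) (_ : Group E) (A : Type) (_ : CommGroup A), IsExtraspecial p E ∧
      Nat.card E = p ^ 3 ∧ Monoid.exponent E = p ∧ (∀ a : A, a ^ p = 1) ∧ Nonempty (P ≃* E × A)) :
    F.IsNormal P := by
  have := finite_of_le hP.1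
  have hZ : Nat.card (⁅P, P⁆ : Subgroup Ω) = p := by
    rw [← map_subtype_commutator, card_map_of_injective P.subtype_injective, h2]
  have hZP : ⁅P, P⁆ ≤ P := commutator_le_self P
  have := finite_of_le (hZP.trans hP.1)
  obtain ⟨c, hc'⟩ : ∃ c : Ω, zpowers c = ⁅P, P⁆ := by
    obtain ⟨c, hc⟩ := isCyclic_iff_exists_zpowers_eq_top.1 (isCyclic_of_prime_card hZ)
    exact ⟨c, by
      rw [← coe_subtype, ← MonoidHom.map_zpowers, hc, ← MonoidHom.range_eq_map, range_subtype]⟩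
  have hc : c ∈ ⁅P, P⁆ := hc'.le (mem_zpowers c)
  have hcS : ∀ z ∈ ⁅P, P⁆, ∀ s ∈ S, Commute z s := fun z hz s hs => by
    have : (⁅P, P⁆.subgroupOf S).Normal := (normal_subgroupOf_iff_le_normalizer (hZP.trans hP.1)).2
      ((le_inf (le_normalizer_of_stronglyClosed hP) (le_normalizer_of_stronglyClosed hP)).trans
        (CfsgLib.Core.normalizer_inf_le_normalizer_commutator P P))
    exact (congrArg Subtype.val (mem_center_iff.1 (CfsgLib.PGroup.le_center_of_card_eq_prime hS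
      (⁅P, P⁆.subgroupOf S) ((Nat.card_congr (subgroupOfEquivOfLe (hZP.trans hP.1)).toEquiv).trans hZ)
      (show (⟨z, hP.1 (hZP hz)⟩ : S) ∈ _ from hz)) ⟨s, hs⟩)).symm
  have hst : ∀ a ∈ P, ∀ x ∈ P, x⁻¹ * (a * x * a⁻¹) ∈ ⁅P, P⁆ := fun a ha x hx =>
    step_of_commutator_le le_rfl hx ha
  have h : GenEx p P c := ⟨hZP hc, by rw [← Nat.card_zpowers, hc', hZ],
    fun g hg => hcS c hc g (hP.1 hg), hc' ▸ hst, fun x hx => by
      rw [hc', ← map_subtype_commutator, ← h1]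
      exact ⟨_, CfsgLib.PGroup.pow_mem_frattini (hS.to_le hP.1) ⟨x, hx⟩, rfl⟩⟩
  refine isNormal_of_chain₂ hS hF hP (Z := ⁅P, P⁆) (stronglyClosed_iff.2 ⟨hZP.trans hP.1,
    fun R f hf z hzR hz => ?_⟩) (fun a ha x hx => (hcS x hx a (hP.1 ha)).eq.symm) hst
  by_contra hne
  have hz1 : z ≠ 1 := fun e => hne (by rw [e, hf.map_one]; exact Subgroup.one_mem _)
  obtain ⟨i, hi⟩ := h.exists_pow_eq (hc' ▸ hz) hz1 (mem_zpowers _)
  have hcR : c ∈ R := hi ▸ R.pow_mem hzR i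
  have hw : f c ∉ zpowers c := fun e => hne (by
    obtain ⟨j, rfl⟩ := hc'.ge hz
    rw [hf.hom.map_zpow hcR, ← hc']
    exact zpow_mem e j)
  have hna : ¬ P ≤ centralizer (P : Set Ω) := fun e => by
    rw [commutator_eq_bot_iff_le_centralizer.2 e, card_bot] at hZ
    exact hp.out.one_lt.ne hZ
  obtain ⟨-, -, -, he, hA⟩ := h.fused hS hF hP (hcS c hc) hf hcR hw
  have hwP : f c ∈ P := hf.mem_of_stronglyClosed hP hcR h.mem
  have he' : ∀ x : P, Commute x ⟨f c, hwP⟩ → x ^ p = 1 := fun x hx =>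
    Subtype.ext (he x x.2 (congrArg Subtype.val hx))
  have hA' : ∀ x y : P, Commute x ⟨f c, hwP⟩ → Commute y ⟨f c, hwP⟩ → Commute x y :=
    fun x y hx hy => Subtype.ext (hA x x.2 y y.2 (congrArg Subtype.val hx) (congrArg Subtype.val hy))
  by_cases hp2 : p = 2
  · subst hp2
    obtain ⟨g, hg⟩ : ∃ g : P, ¬ Commute g ⟨f c, hwP⟩ := by
      by_contra H
      push Not at H
      exact hna fun x hx y hy => congrArg Subtype.val (hA' ⟨y, hy⟩ ⟨x, hx⟩ (H _) (H _))
    exact hD rfl (h.top.exists_dihedral hA' he' hg)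
  · obtain ⟨g, hg, hgw, hgp⟩ := h.exists_pow_eq_one hS hF hP (hcS c hc) hp2 hna hf hcR hw
    exact hE hp2 (h.top.exists_extraspecial hp2 hA' he' (g := ⟨g, hg⟩)
      (fun e => hgw (congrArg Subtype.val e)) (Subtype.ext hgp))

end CfsgLib.Fusion
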