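import Mathlib
import Cfsg.Agent.Lib.Fusion.Reduct
import Cfsg.Agent.Lib.Fusion.Agemo
import Cfsg.Agent.S5193

/-!
# Central elements modulo the focal subgroup (the fusion system version of a theorem of Gross)
-/

set_option autoImplicit false

namespace CfsgLib.Fusion

open Cfsg Cfsg.FusionSystem

theorem exists_norm_fixed {A M : Type*} [Group A] [Finite A] [CommGroup M] [MulDistribMulAction A M]
    (c : M) (K : Subgroup M) (hK : ∀ a : A, c⁻¹ * a • c ∈ K) :
    ∃ z : M, (∀ a : A, a • z = z) ∧ (c ^ (MulAction.stabilizer A c).index)⁻¹ * z ∈ K := by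
  classical
  have : Fintype (MulAction.orbit A c) := (Set.finite_range _).fintype
  refine ⟨∏ y : MulAction.orbit A c, (y : M), fun a => ?_, ?_⟩
  · rw [Finset.smul_prod']
    exact Fintype.prod_equiv (MulAction.toPerm a) _ _ fun y => rfl
  · rw [MulAction.index_stabilizer, ← Nat.card_coe_set_eq, Nat.card_eq_fintype_card,
      ← Finset.card_univ, ← inv_pow, ← Finset.prod_const, ← Finset.prod_mul_distrib]
    refine K.prod_mem fun y _ => ?_
    obtain ⟨_, a, rfl⟩ := y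
    exact hK a

variable {Ω : Type*} [Group Ω] {S T R Q : Subgroup Ω} {F : FusionSystem S} {p : ℕ}
variable [Finite S] [Fact p.Prime]

open scoped IsMulCommutative in
theorem exists_center_normSys (hS : IsPGroup p S) (hF : F.IsSaturated p) (hQ : F.IsFullyNormalized Q)
    {c : Ω} (hcQ : c ∈ Q) (hc : c ∈ centralizerIn S S) : ∃ z ∈ (normSys F Q hQ.1).center,
      ∃ n, Nat.Coprime n p ∧ (c ^ n)⁻¹ * z ∈ F.focalSubgroup := by
  have := finite_of_le_S hQ.1
  have := finite_mulAut Q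
  let A := F.autGroup Q
  letI : MulDistribMulAction A (Subgroup.center Q) := MulDistribMulAction.compHom _
    ((MulAut.characteristic (Subgroup.center Q)).comp A.subtype)
  have hsm : ∀ (a : A) (x : Subgroup.center Q), (((a • x : Subgroup.center Q) : Q) : Ω) =
      extAut a.1 x := fun a x => by rw [extAut_coe]; rfl
  let c' : Subgroup.center Q := ⟨⟨c, hcQ⟩, Subgroup.mem_center_iff.2 fun g =>
    Subtype.ext ((mem_centralizerIn'.1 hc).2 g (hQ.1 g.2))⟩
  obtain ⟨z, hz, hz'⟩ := exists_norm_fixed (A := A) c'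
    (F.focalSubgroup.comap (Q.subtype.comp (Subgroup.center Q).subtype)) fun a => by
      have := ((mem_autGroup hQ.1).1 a.2).mem_focal hcQ
      rw [Subgroup.mem_comap, map_mul, map_inv]
      change c⁻¹ * (((a • c' : Subgroup.center Q) : Q) : Ω) ∈ _
      rw [hsm]
      exact this
  refine ⟨z, le_center (Q := Subgroup.zpowers ((z : Q) : Ω)) ?_ (Subgroup.mem_zpowers _),
    _, ?_, by simpa using hz'⟩
  · have hzQ : Subgroup.zpowers ((z : Q) : Ω) ≤ Q := Subgroup.zpowers_le.2 z.1.2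
    refine isCentral_iff.2 ⟨hzQ.trans (le_normalizerIn hQ.1), fun P f hf => ?_⟩
    obtain ⟨hP, g, hg, e, hi⟩ := (mor_normSys hQ.1).1 hf
    obtain ⟨α, hα, e'⟩ := (hg.mono le_sup_right).exists_aut hi
    refine ⟨g, (mor_normSys hQ.1).2 (nMor_of hg le_sup_right (sup_le_sup_left hzQ P)
      (sup_le hP (hzQ.trans (le_normalizerIn hQ.1))) hi), e, ?_⟩
    have hgz : g z = z := by rw [← e' _ z.1.2, ← hsm ⟨α, hα⟩ z, hz]
    rintro _ ⟨k, rfl⟩
    simp only
    rw [hg.hom.map_zpow (Subgroup.mem_sup_right z.1.2), hgz]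
  · have h1 : (autInducedBy S Q).subgroupOf A ≤ MulAction.stabilizer A c' := fun a ha => by
      obtain ⟨s, hs, e⟩ := mem_autInducedBy.1 ha
      refine Subtype.ext (Subtype.ext ?_)
      rw [hsm]
      refine (e c hcQ).trans ?_
      rw [(mem_centralizerIn'.1 hc).2 s hs]
      simp [c']
    exact ((Nat.Prime.coprime_iff_not_dvd Fact.out).2 fun h =>
      (sat_sylIn hS hF hQ).not_dvd_relIndex (h.trans (Subgroup.index_dvd_of_le h1))).symm

theorem exists_center_of_mem_center (hS : IsPGroup p S) (hF : F.IsSaturated p) {c : Ω}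
    (hc : c ∈ centralizerIn S S) : ∃ z n, Nat.Coprime n p ∧ (c ^ n)⁻¹ * z ∈ F.focalSubgroup ∧
      z ^ p ∈ F.center ∧ (p ≠ 2 → z ∈ F.center) := by
  have hW := fFunctor_thompsonA (p := p)
  have hn : S ≤ Subgroup.normalizer (thompsonSubgroupAOf S : Set Ω) :=
    Subgroup.le_normalizer.trans (hW.le_normalizer hS)
  have hQ : F.IsFullyNormalized (thompsonSubgroupAOf S) :=
    fullyNormalized_of_le_normalizer (hW.le S) hn
  have hcJ : c ∈ thompsonSubgroupAOf S := by
    have hc' := mem_centralizerIn'.1 hc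
    have h := center_le_thompsonA (⊤ : Subgroup S) (x := ⟨c, hc'.1⟩)
      (mem_centralizerIn'.2 ⟨trivial, fun x _ => Subtype.ext (hc'.2 x x.2)⟩)
    have e := CfsgLib.PLocal.map_thompsonSubgroupOf (p := 0) (U := (⊤ : Subgroup S)) S.subtype_injective
    rw [← CfsgLib.ZJ.thompsonSubgroupAOf_eq, ← CfsgLib.ZJ.thompsonSubgroupAOf_eq,
      ← MonoidHom.range_eq_map, Subgroup.range_subtype] at e
    exact e ▸ ⟨_, h, rfl⟩
  have := finite_of_le_S (normalizerIn_le S (thompsonSubgroupAOf S))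
  obtain ⟨z, hz, n, h1, h2⟩ := exists_center_normSys hS hF hQ hcJ hc
  obtain ⟨h3, h4⟩ := Cfsg.Agent.S5193.result p hS F hF _ (isNormalizerSystem_normSys F hQ.1)
  refine ⟨z, n, h1, h2, h3 ⟨Subgroup.subset_closure ⟨z, ⟨normalizerIn_le _ _ (center_le _ hz),
    Subgroup.mem_centralizer_iff.2 fun s hs => ?_⟩, rfl⟩, Subgroup.pow_mem _ hz p⟩,
    fun hp => h4 (Or.inl hp) ▸ hz⟩
  exact comm_of_isCentral (isCentral_center _) (mem_normalizerIn.2 ⟨hs, hn hs⟩) hz

omit [Finite S] [Fact p.Prime] in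
theorem mem_of_coprime_pow_mem (hS : IsPGroup p S) {c : Ω} (hc : c ∈ S) {n : ℕ}
    (hn : Nat.Coprime n p) (h : c ^ n ∈ T) : c ∈ T := by
  obtain ⟨k, hk⟩ := hS ⟨c, hc⟩
  have hk' : c ^ p ^ k = 1 := congrArg Subtype.val hk
  have hco : Nat.Coprime n (orderOf c) :=
    (hn.pow_right k).coprime_dvd_right (orderOf_dvd_of_pow_eq_one hk')
  obtain ⟨m, hm⟩ := exists_pow_eq_self_of_coprime hco
  exact hm ▸ T.pow_mem h m

/-- If `D` is a product system `E ⟨c⟩` with `c` centralizing `T`, and `C_S(E) ≤ T`, then `c ^ p ∈ T`,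
and `c ∈ T` for odd `p`. -/
theorem gross_core (hS : IsPGroup p S) {E : FusionSystem T} {c : Ω} (hc : c ∈ centralizerIn S T)
    (hCE : ∀ Y : Subgroup Ω, Y ≤ centralizerIn S T → (∀ C : FusionSystem (centralizerIn S Y),
      F.IsCentralizerSystem Y C → E.IsSubsystemOf C) → Y ≤ T)
    {D : FusionSystem (T ⊔ Subgroup.zpowers c)} (hD : D.IsSaturated p) (hDF : D.IsSubsystemOf F)
    (hED : E.IsSubsystemOf D) (hh : D.hyperfocalSubgroup p ≤ T) : c ^ p ∈ T ∧ (p ≠ 2 → c ∈ T) := by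
  have hR := le_of_isSubsystemOf hDF
  have := finite_of_le_S hR
  have hc' := mem_centralizerIn'.1 hc
  have hcR : c ∈ centralizerIn (T ⊔ Subgroup.zpowers c) (T ⊔ Subgroup.zpowers c) := by
    refine mem_centralizerIn.2 ⟨Subgroup.mem_sup_right (Subgroup.mem_zpowers c), ?_⟩
    refine (Subgroup.le_centralizer_iff (H := T ⊔ Subgroup.zpowers c) (K := Subgroup.zpowers c)).1
      (sup_le (fun t ht => Subgroup.mem_centralizer_iff.2 ?_) (Subgroup.le_centralizer _))
      (Subgroup.mem_zpowers c)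
    rintro _ ⟨k, rfl⟩
    exact ((show Commute t c from hc'.2 t ht).zpow_right k).eq.symm
  obtain ⟨z, n, h1, h2, h3, h4⟩ := exists_center_of_mem_center (hS.to_le hR) hD hcR
  have hf : D.focalSubgroup ≤ T := by
    rw [focal_eq_hyperfocal_sup (hS.to_le hR) hD]
    refine sup_le hh (Subgroup.commutator_le.2 fun x hx y hy => ?_)
    have key : ∀ x ∈ T ⊔ Subgroup.zpowers c, ∃ t ∈ T, ∃ k : ℤ, x = t * c ^ k := fun x hx => by
      rw [Subgroup.sup_eq_closure] at hx
      induction hx using Subgroup.closure_induction with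
      | mem x hx => rcases hx with hx | ⟨k, rfl⟩
                    exacts [⟨x, hx, 0, by simp⟩, ⟨1, T.one_mem, k, by simp⟩]
      | one => exact ⟨1, T.one_mem, 0, by simp⟩
      | mul x y _ _ hx hy =>
        obtain ⟨t, ht, k, rfl⟩ := hx
        obtain ⟨u, hu, l, rfl⟩ := hy
        refine ⟨t * u, T.mul_mem ht hu, k + l, ?_⟩
        rw [zpow_add, mul_assoc, ← mul_assoc (c ^ k),
          ← ((show Commute u c from hc'.2 u hu).zpow_right k).eq]
        group
      | inv x _ hx =>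
        obtain ⟨t, ht, k, rfl⟩ := hx
        refine ⟨t⁻¹, T.inv_mem ht, -k, ?_⟩
        rw [((show Commute t⁻¹ c from hc'.2 _ (T.inv_mem ht)).zpow_right (-k)).eq]
        group
    obtain ⟨t, ht, k, rfl⟩ := key x hx
    obtain ⟨u, hu, l, rfl⟩ := key y hy
    have e2 := ((show Commute u c from hc'.2 u hu).zpow_right k).eq
    rw [commutatorElement_def]
    have : t * c ^ k * (u * c ^ l) * (t * c ^ k)⁻¹ * (u * c ^ l)⁻¹ = t * u * t⁻¹ * u⁻¹ := by
      calc _ = t * (c ^ k * u) * (c ^ l * (c ^ k)⁻¹) * t⁻¹ * ((c ^ l)⁻¹ * u⁻¹) := by group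
        _ = t * u * (c ^ l * t⁻¹ * (c ^ l)⁻¹) * u⁻¹ := by rw [← e2]; group
        _ = _ := by
          rw [← ((show Commute t⁻¹ c from hc'.2 _ (T.inv_mem ht)).zpow_right l).eq]; group
    rw [this]
    exact T.mul_mem (T.mul_mem (T.mul_mem ht hu) (T.inv_mem ht)) (T.inv_mem hu)
  have key : ∀ y ∈ D.center, y ∈ T := fun y hy => by
    have hyc : D.IsCentral (Subgroup.zpowers y) :=
      isCentral_of_le (isCentral_center D) (Subgroup.zpowers_le.2 hy)
    have hTy : T ≤ centralizerIn S (Subgroup.zpowers y) := fun t ht =>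
      mem_centralizerIn'.2 ⟨hR (Subgroup.mem_sup_left ht), fun x hx =>
        (comm_of_isCentral hyc (Subgroup.mem_sup_left ht) hx).symm⟩
    refine hCE (Subgroup.zpowers y) (fun x hx => mem_centralizerIn'.2 ⟨hR (hyc.1 hx), fun t ht =>
      comm_of_isCentral hyc (Subgroup.mem_sup_left ht) hx⟩) (fun C hC => isSubsystemOf_iff.2
        fun P f hf => (isCentralizerSystem_iff.1 hC P f).2 ⟨hf.le.trans hTy, ?_⟩)
      (Subgroup.mem_zpowers y)
    obtain ⟨g, hg, e1, e2⟩ := (hf.sub hED).extend_central hyc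
    exact ⟨g, hg.sub hDF, e1, e2⟩
  have ht := hf h2
  have hz : z = c ^ n * ((c ^ n)⁻¹ * z) := by group
  refine ⟨mem_of_coprime_pow_mem hS (S.pow_mem hc'.1 p) h1 ?_, fun hp =>
    mem_of_coprime_pow_mem hS hc'.1 h1 ?_⟩
  · have h5 := key _ h3
    rw [hz, ((show Commute _ c from hc'.2 _ ht).pow_right n).symm.mul_pow] at h5
    rw [← pow_mul, mul_comm, pow_mul]
    exact (T.mul_mem_cancel_right (T.pow_mem ht p)).1 h5
  · have h5 := key _ (h4 hp)
    rw [hz] at h5
    exact (T.mul_mem_cancel_right ht).1 h5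

theorem gross_of_prodSys (hS : IsPGroup p S) {E : FusionSystem T} (hT : F.StronglyClosed T)
    (hCE : ∀ Y : Subgroup Ω, Y ≤ centralizerIn S T → (∀ C : FusionSystem (centralizerIn S Y),
      F.IsCentralizerSystem Y C → E.IsSubsystemOf C) → Y ≤ T)
    (hER : ∀ R, T ≤ R → R ≤ S → ∃ D : FusionSystem R, D.IsSaturated p ∧ D.IsSubsystemOf F ∧
      E.IsSubsystemOf D ∧ D.hyperfocalSubgroup p ≤ T) :
    ⁅T ⊔ centralizerIn S T, T ⊔ centralizerIn S T⁆ ≤ T ∧ (p ≠ 2 → centralizerIn S T ≤ T) := by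
  have key : ∀ c ∈ centralizerIn S T, c ^ p ∈ T ∧ (p ≠ 2 → c ∈ T) := fun c hc => by
    obtain ⟨D, h1, h2, h3, h4⟩ := hER (T ⊔ Subgroup.zpowers c) le_sup_left
      (sup_le hT.1 (Subgroup.zpowers_le.2 (centralizerIn_le _ _ hc)))
    exact gross_core hS hc hCE h1 h2 h3 h4
  refine ⟨?_, fun hp c hc => (key c hc).2 hp⟩
  have hn := normal_subgroupOf_of_stronglyClosed hT
  have hU : T ⊔ centralizerIn S T ≤ S := sup_le hT.1 (centralizerIn_le _ _)
  let π := QuotientGroup.mk' (T.subgroupOf S)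
  have hπ : ∀ x : S, π x = 1 ↔ (x : Ω) ∈ T := fun x => QuotientGroup.eq_one_iff x
  have hcomm : ∀ x y : S, (x : Ω) ∈ centralizerIn S T → (y : Ω) ∈ centralizerIn S T →
      π x * π y = π y * π x := fun x y hx hy => by
    by_cases hp : p = 2
    · subst hp
      have h2 : ∀ x : S, (x : Ω) ∈ centralizerIn S T → (π x)⁻¹ = π x := fun x hx => by
        rw [inv_eq_iff_mul_eq_one, ← map_mul, hπ, ← pow_two]
        exact (key x hx).1
      rw [← map_mul, ← h2 (x * y) (mul_mem hx hy), map_mul, mul_inv_rev, h2 x hx, h2 y hy]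
    · rw [(hπ x).2 ((key x hx).2 hp), one_mul, mul_one]
  have hmem : ∀ x ∈ T ⊔ centralizerIn S T, ∀ hx : x ∈ S, ∃ c : S, (c : Ω) ∈ centralizerIn S T ∧
      π ⟨x, hx⟩ = π c := fun x hx hxS => by
    have : (⟨x, hxS⟩ : S) ∈ T.subgroupOf S ⊔ (centralizerIn S T).subgroupOf S := by
      rw [← Subgroup.subgroupOf_sup hT.1 (centralizerIn_le _ _)]; exact hx
    rw [← SetLike.mem_coe, Subgroup.normal_mul] at this
    obtain ⟨t, ht, c, hc, e⟩ := this
    exact ⟨c, hc, by rw [← e, map_mul, (hπ t).2 ht, one_mul]⟩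
  refine Subgroup.commutator_le.2 fun x hx y hy => ?_
  obtain ⟨c, hc, e1⟩ := hmem x hx (hU hx)
  obtain ⟨d, hd, e2⟩ := hmem y hy (hU hy)
  have := (hπ (⟨x, hU hx⟩ * ⟨y, hU hy⟩ * ⟨x, hU hx⟩⁻¹ * ⟨y, hU hy⟩⁻¹)).1 (by
    simp only [map_mul, map_inv, e1, e2, hcomm c d hc hd]; group)
  exact this

theorem exists_ext_mod_of_stronglyClosed (hS : IsPGroup p S) (hF : F.IsSaturated p)
    (hT : F.StronglyClosed T) {P : Subgroup Ω} {f : Ω → Ω} (hf : Mor F P f) :
    ∃ g, Mor F (P ⊔ T) g ∧ ∀ x ∈ P, (g x)⁻¹ * f x ∈ T := by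
  have := normal_subgroupOf_of_stronglyClosed hT
  obtain ⟨E, h⟩ := exists_isFactor_quotient hT
  obtain ⟨f', hf', e⟩ := h.ind hS hF hT hf
  obtain ⟨g, hg, e'⟩ := h.lift hf'
  rw [h.pre_img hf.le] at hg e'
  exact ⟨g, hg, fun x hx => (h.eq_iff (hg.mem (Subgroup.mem_sup_left hx)) (hf.mem hx)).1
    ((e' x (Subgroup.mem_sup_left hx)).symm.trans (e x hx))⟩

theorem focal_le_of_reduction (hS : IsPGroup p S) {E : FusionSystem T} (hE : E.IsNormalIn F p)
    {D : FusionSystem (T ⊔ centralizerIn S T)} (hD : D.IsSaturated p) (hDF : D.IsSubsystemOf F)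
    (hA : D.autGroup T ≤ E.autGroup T)
    (hC : (centSys F T (normalIn_stronglyClosed hE).1).focalSubgroup ≤ T) : D.focalSubgroup ≤ T := by
  have hT := normalIn_stronglyClosed hE
  have hU := le_of_isSubsystemOf hDF
  have := finite_of_le_S hU
  have := finite_of_le_S hT.1
  have hTD := stronglyClosed_sub_of_le hDF hT le_sup_left
  refine focal_le_iff.2 fun P f hf x hx => ?_
  obtain ⟨g, hg, e⟩ := exists_ext_mod_of_stronglyClosed (hS.to_le hU) hD hTD hf
  obtain ⟨t, ht, c, hc, rfl⟩ := mem_sup_centralizerIn.1 (hf.le hx)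
  have hcP : c ∈ P ⊔ T := (Subgroup.mul_mem_cancel_left _ (Subgroup.mem_sup_right ht)).1
    (Subgroup.mem_sup_left hx)
  have hgT := (hg.mono le_sup_right).img_eq_of_stronglyClosed hTD
  obtain ⟨α, hα, eα⟩ := (hg.mono le_sup_right).exists_aut hgT
  obtain ⟨b, hb, e1, e2⟩ := normalIn_extCond hE _ ((mem_autGroup le_rfl).1 (hA hα))
  have hPU : P ⊔ T ≤ T ⊔ centralizerIn S T := hg.le
  obtain ⟨k, hk, k1, k2, k3, -⟩ := (hb.mono hPU).exists_inv
  have hbT : img T b = T := (hb.mono le_sup_left).img_eq_of_stronglyClosed hT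
  have hTi : T ≤ img (P ⊔ T) b := hbT.ge.trans (img_mono b le_sup_right)
  have hbc : b c ∈ centralizerIn S T :=
    hb.mem_centralizerIn_of_img_eq le_sup_left hbT (Subgroup.mem_sup_right hc) hc
  have hbc' : b c ∈ img (P ⊔ T) b := (hb.mono hPU).mem_img.2 ⟨c, hcP, rfl⟩
  have h1 : Mor (centSys F T hT.1) (Subgroup.zpowers (b c)) (g ∘ k) := (mor_centSys hT.1).2
    (cMor_of (hk.comp (hg.sub hDF) k3) hTi (Subgroup.zpowers_le.2 hbc') (Subgroup.zpowers_le.2 hbc)
      fun y hy => by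
        obtain ⟨u, hu, rfl⟩ := (hb.mono le_sup_left).mem_img.1 (hbT.ge hy)
        rw [Function.comp, k1 u (Subgroup.mem_sup_right hu), e1 u hu, eα u hu])
  have h2 := hC (h1.mem_focal (Subgroup.mem_zpowers _))
  rw [Function.comp, k1 c hcP] at h2
  have h3 : c⁻¹ * g c ∈ T := by simpa [mul_assoc] using T.mul_mem (e2 c hc) h2
  have h4 : g t ∈ T := hg.mem_of_stronglyClosed hTD (Subgroup.mem_sup_right ht) ht
  have h5 : c⁻¹ * (t⁻¹ * g t) * c⁻¹⁻¹ ∈ T := conj_mem_of_stronglyClosed hT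
    (S.inv_mem (centralizerIn_le _ _ hc)) (T.mul_mem (T.inv_mem ht) h4)
  have h6 := T.mul_mem (T.mul_mem h5 h3) (e _ hx)
  rw [hg.map_mul (Subgroup.mem_sup_right ht) hcP] at h6
  convert h6 using 1
  group

/-- Oliver's reduction: equality of the residual limits. -/
theorem sameMor_limit_of_focal_le (hS : IsPGroup p S) {E : FusionSystem T} (hE : E.IsNormalIn F p)
    (h : RedAt F E p (E.autGroup T))
    (hC : (centSys F T (normalIn_stronglyClosed hE).1).focalSubgroup ≤ T)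
    {U V : Subgroup Ω} {X : FusionSystem U} (hX : X.IsResidualLimitOf F p) {Y : FusionSystem V}
    (hY : Y.IsResidualLimitOf E p) : SameMor X Y := by
  obtain ⟨D, h1, h2, h3, h4⟩ := exists_reduction hS hE.1 h
  have hU := le_of_isSubsystemOf (normalIn_sub h1)
  have := finite_of_le_S hU
  have hsub := h4 _ X (limit_resPerfect hX)
    (limit_isWeaklyNormalIn hX hS (isNormalIn_refl hE.1.2.1).1)
  have hw := isWeaklyNormalIn_of_sub hS hE.1 h1.1.1 h2 (normalIn_sub h1)
  have hi : E.HasPPowerIndexIn D p := hasPPowerIndexIn_iff.2 ⟨h2, (hyperfocal_le_focal D p).trans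
    (focal_le_of_reduction hS hE h1.1.1 (normalIn_sub h1) h3.le hC), fun P hP α hα => by
      obtain ⟨a, f, ha, hi, hf, e⟩ := inv_frattini hw.2.2 hP
        ((mem_autGroup (hP.trans le_sup_left)).1 (opRes_le _ _ hα))
      obtain ⟨β, hβ, eβ⟩ := ha.exists_aut hi
      have ha' : Mor E T a := ((mem_autGroup le_rfl).1 (h3.le hβ)).congr eβ
      exact ((hf.comp ha' fun x hx => hf.mem hx).congr fun x hx => (e x hx).symm).mem_autGroup⟩
  exact (sameMor_limit_of_sub hS hE.1 hX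
    ((limit_resPerfect hX).sub_of_pPowerIndex (hS.to_le hU) hsub hi) hY).symm

end CfsgLib.Fusion
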