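import Mathlib
import Cfsg.Agent.Lib.Fusion.CentQuad
import Cfsg.Agent.Lib.Fusion.Apps
import Cfsg.Agent.Lib.Fusion.CentE
import Cfsg.Agent.Lib.Fusion.GroupFactor
import Cfsg.Agent.Lib.PStab.Stable

/-! # Saturated `p`-stable fusion systems are constrained (`p` odd) -/

set_option autoImplicit false
universe u
open Cfsg Cfsg.FusionSystem Subgroup

namespace CfsgLib.Fusion

/-- All automizers of the system are `p`-stable. -/
def FStable (p : ℕ) {Ω : Type*} [Group Ω] {S : Subgroup Ω} (F : FusionSystem S) : Prop :=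
  ∀ Q ≤ S, QuadStable p (F.autGroup Q)

section Basic

variable {Ω : Type*} [Group Ω] {S : Subgroup Ω} [Finite S] {F : FusionSystem S} {p : ℕ}

theorem fStable_of_fullyNormalized (h : ∀ Q, F.IsFullyNormalized Q → QuadStable p (F.autGroup Q)) : FStable p F :=
  fun _ hQ => quadStable_of_forall_fullyNormalized h hQ

theorem FStable.sub (h : FStable p F) {T : Subgroup Ω} {E : FusionSystem T} (hE : E.IsSubsystemOf F) :
    FStable p E := fun _ hQ => quadStable_of_sub hE (fun Q hQ => h Q hQ.1) hQ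

theorem FStable.pairSt (h : FStable p F) {B : Subgroup Ω} (hB : B ≤ S) : PairSt p (F.autGroup B) := by
  intro E α hα β hβ iα iβ qα qβ
  have hE : E.map B.subtype ≤ B := map_subtype_le E
  have := finite_of_le (hE.trans hB)
  have key : ∀ γ ∈ F.autGroup B, (∀ x ∈ E, γ x ∈ E) → (∀ x ∈ E, γ (x⁻¹ * γ x) = x⁻¹ * γ x) →
      ∃ γ' ∈ (pCore p (F.autGroup (E.map B.subtype))).map (F.autGroup (E.map B.subtype)).subtype,
        ∀ x ∈ E.map B.subtype, extAut γ x = extAut γ' x := fun γ hγ i q => by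
    obtain ⟨γ', h1, h2⟩ := (((mem_autGroup hB).1 hγ).mono hE).exists_aut_of_mem (by
      rintro _ ⟨x, hx, rfl⟩
      exact ⟨γ x, i x hx, (extAut_coe γ x).symm⟩)
    refine ⟨γ', h _ (hE.trans hB) γ' h1 (isQuadAut_iff.2 fun a => Subtype.ext ?_), fun x hx => (h2 x hx).symm⟩
    obtain ⟨_, x, hx, rfl⟩ := a
    have e : ∀ y (hy : y ∈ E), (γ' ⟨_, y, hy, rfl⟩ : Ω) = γ y := fun y hy => by
      rw [← extAut_coe, h2 _ ⟨y, hy, rfl⟩]
      exact extAut_coe γ y
    have e1 : (⟨_, x, hx, rfl⟩⁻¹ * γ' ⟨_, x, hx, rfl⟩ : E.map B.subtype) =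
        ⟨_, x⁻¹ * γ x, mul_mem (inv_mem hx) (i x hx), rfl⟩ := Subtype.ext (by
      rw [coe_mul, e x hx]; rfl)
    rw [e1, e _ (mul_mem (inv_mem hx) (i x hx)), q x hx]
    rfl
  obtain ⟨α', hα', eα⟩ := key α hα iα qα
  obtain ⟨β', hβ', eβ⟩ := key β hβ iβ qβ
  obtain ⟨n, hn⟩ := ((CfsgLib.Core.isPGroup_pCore p (F.autGroup (E.map B.subtype))).map _)
    ⟨_, mul_mem (mul_mem hα' (inv_mem hβ')) hα'⟩
  refine ⟨n, fun x hx => Subtype.ext ?_⟩
  have e : ∀ y ∈ E.map B.subtype, extAut (α * β⁻¹ * α) y = extAut (α' * β'⁻¹ * α') y := fun y hy => by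
    rw [extAut_mul_apply, extAut_mul_apply, extAut_mul_apply, extAut_mul_apply, eα y hy,
      extAut_inv_ext eβ _ (extAut_mem _ hy), eα _ (extAut_mem _ (extAut_mem _ hy))]
  rw [← extAut_coe, extAut_pow_ext e _ (x : Ω) ⟨x, hx, rfl⟩, show (α' * β'⁻¹ * α') ^ p ^ n = 1 from
    congrArg Subtype.val hn, extAut_one_apply]

variable [Fact p.Prime]

/-- Stability passes to the factor system by a central subgroup. -/
theorem FStable.factor (h : FStable p F) (hp2 : p ≠ 2) (hS : IsPGroup p S) {Ω' : Type*} [Group Ω']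
    {S' : Subgroup Ω'} {E : FusionSystem S'} {Z : Subgroup Ω} {t : Ω → Ω'} (hf : IsFactor F Z t E)
    (hZ : F.IsCentral Z) : FStable p E := by
  intro P hP χ hχ hq
  have := hf.finite
  have := finite_of_le hP
  have := finite_mulAut' P
  have hB : pre S t P ≤ S := pre_le _ _ _
  have := finite_of_le hB
  have ht := hf.hom.mono hB
  have key : ∀ γ ∈ E.autGroup P, IsQuadAut γ → ∃ x ∈ F.autGroup (pre S t P),
      (∀ b, (b⁻¹ * x b)⁻¹ * x (b⁻¹ * x b) ∈ Z.subgroupOf (pre S t P)) ∧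
        ∀ y ∈ pre S t P, extAut γ (t y) = t (extAut x y) := fun γ hγ q => by
    obtain ⟨x, hx, e⟩ := hf.exists_lift_aut hP hγ
    refine ⟨x, hx, fun b => ?_, e⟩
    rw [mem_subgroupOf, coe_mul, coe_inv, ← hf.eq_iff (hB (b⁻¹ * x b).2) (hB (x _).2), ← extAut_coe,
      ← e _ (b⁻¹ * x b).2, coe_mul, coe_inv, ht.map_mul (inv_mem b.2) (x b).2, ht.map_inv b.2, ← extAut_coe,
      ← e _ b.2]
    have hb : t b ∈ P := (hf.mem_pre.1 b.2).2
    have := congrArg Subtype.val (isQuadAut_iff.1 q ⟨t b, hb⟩)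
    rw [← extAut_coe, coe_mul, coe_inv, ← extAut_coe] at this
    exact this.symm
  refine ⟨⟨χ, hχ⟩, CfsgLib.PStab.mem_pCore_of_forall_conj _ fun g => ?_, rfl⟩
  obtain ⟨x, hx, qx, ex⟩ := key χ hχ hq
  obtain ⟨y, hy, qy, ey⟩ := key _ (g * ⟨χ, hχ⟩ * g⁻¹).2 (isQuadAut_iff.2 fun a => by
    have := congrArg (g : MulAut P) (isQuadAut_iff.1 hq ((g : MulAut P)⁻¹ a))
    simpa using this)
  have hK := (h.pairSt hB).isPGroup_closure hp2 (hS.to_le hB) (Inn_le_autGroup F hB)
    (Z := Z.subgroupOf (pre S t P)) (fun α hα z hz => Subtype.ext (by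
      rw [← extAut_coe]
      exact ((mem_autGroup hB).1 hα).eq_of_isCentral hZ z.2 hz)) hx hy qx qy
  refine ((isPGroup_indSub ht (hf.img_pre hP) hK).comap_of_injective (E.autGroup P).subtype
    (subtype_injective _)).to_le ?_
  rw [closure_le]
  rintro _ (rfl | rfl)
  · exact (mem_indSub ht (hf.img_pre hP)).2 ⟨x, subset_closure (Set.mem_insert _ _), ex⟩
  · exact (mem_indSub ht (hf.img_pre hP)).2 ⟨y, subset_closure (Set.mem_insert_of_mem _ rfl), ey⟩

theorem FStable.isNormalizerPStable (h : FStable p F) (hp2 : p ≠ 2) (hS : IsPGroup p S) {G : Type*} [Group G]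
    {ι : S →* G} (hG : F.IsModel p G ι) : IsNormalizerPStable p G := by
  have := hG.1
  obtain ⟨T, hT⟩ := hG.2.2.1
  have h1 := h.factor hp2 hS (realized_isFactor hG.2.1) (isCentral_bot F)
  rw [← hT] at h1
  exact (isNormalizerPStable_iff_groupFusion T).2 fun Q hQ => h1 Q hQ.1

end Basic

variable {p : ℕ} [Fact p.Prime] {Ω : Type u} [Group Ω] {S : Subgroup Ω} [Finite S] {F : FusionSystem S}

theorem FStable.isNormal_zjA_of_constrained (h : FStable p F) (hp2 : p ≠ 2) (hS : IsPGroup p S)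
    (hF : F.IsConstrained p) {D : Subgroup Ω} (hD : F.StronglyClosed D) : F.IsNormal (centerThompsonAOf D) := by
  obtain ⟨G, _, ι, hG⟩ := exists_model hS hF
  have := hG.1
  obtain ⟨T, hT⟩ := hG.2.2.1
  refine realized_isNormal_of_normal hG.2.1 (((fFunctor_zjA (p := p)).le D).trans hD.1) ?_
  rw [fFunctor_zjA.img_realized hS hG.2.1 hD.1]
  refine CfsgLib.ZJ.centerThompsonAOf_normal hp2 (CfsgLib.ZJ.quadStable_self_of_isNormalizerPStable
    (h.isNormalizerPStable hp2 hS hG)) hG.2.2.2 T ?_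
  rw [hT]
  exact realized_stronglyClosed hG.2.1 hD

/-- A saturated `p`-stable fusion system (`p` odd) is constrained. -/
theorem FStable.constrained (h : FStable p F) (hp2 : p ≠ 2) (hS : IsPGroup p S) (hF : F.IsSaturated p) :
    F.IsConstrained p := by
  refine fusion_induction (p := p) (Φ := fun Ω _ S F => FStable p F → F.IsConstrained p) ?_ F hS hF h
  intro Ω _ S _ F hS hF ih1 ih2 h
  have hW := fFunctor_zjA.{u} (p := p)
  have hQ := isNormal_core F
  by_cases hS1 : S ≤ F.core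
  · exact constrained_of_isNormal hF hQ ((centralizerIn_le _ _).trans hS1)
  by_cases hc : F.core = ⊥
  · have h1 : S ≠ ⊥ := fun e => hS1 (e.le.trans bot_le)
    obtain ⟨z, -, hzc, hz1⟩ := exists_mem_centralizerIn_ne_one hS le_rfl le_normalizer h1
    refine absurd (eq_bot_iff.2 ((le_core (isNormal_of_sub_normSys (hW.le S) ?_)).trans hc.le)) (hW.ne_bot hS h1)
    refine sub_of_wellPlaced hS hF ((nLe_normSys F (hW.le S)).le (hW.le S)
      (le_normalizer.trans (hW.le_normalizer hS)))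
      (V := fun P => centerThompsonAOf P) (fun P _ => hW.le P) (fun P f hf => hW.img_mor hS hf)
      (fun Q hQ => ?_) (nLe_normSys F _) fun Q hQ hQ1 h2 => ?_
    · have := finite_of_le (normalizerIn_le S Q)
      exact hW.ne_bot (hS.to_le (normalizerIn_le S Q)) fun e => hz1 (mem_bot.1
        (e.le (center_le_normalizerIn hQ hzc)))
    · have := finite_of_le (normalizerIn_le S Q)
      have hsub := normSys_sub F hQ.1
      have hN := ih1 _ _ (normSys_saturated hS hF hQ) hsub (fun h => hQ1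
        (eq_bot_iff.2 ((le_core (isNormal_of_sub_normSys hQ.1 h)).trans hc.le))) (h.sub hsub)
      exact (nLe_iff hQ.1).2 ((h2.sub hsub).of_isNormal ((h.sub hsub).isNormal_zjA_of_constrained hp2
        (hS.to_le (normalizerIn_le S Q)) hN (stronglyClosed_top _)))
  by_cases hZ : F.IsCentral F.core
  · have hQs := stronglyClosed_of_isNormal hQ
    have := normal_subgroupOf_of_stronglyClosed hQs
    obtain ⟨E, hE⟩ := exists_isFactor_quotient hQs
    have hE' := ih2 _ _ E (hE.isPGroup hS) (hE.saturated hS hF hQs) (hE.card_lt hc) (h.factor hp2 hS hE hZ)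
    have hA : IsPGroup p (F.autGroup F.core) := fun α => ⟨0, Subtype.ext (by
      rw [pow_zero, pow_one]
      ext x
      rw [← extAut_coe]
      exact ((mem_autGroup hQ.1).1 α.2).eq_of_isCentral hZ x.2 x.2)⟩
    have h1 := le_core (hE.isNormal_pre hS hF hQ hA (isNormal_core E))
    have h2 : E.core = ⊥ := by
      rw [← hE.img_pre (isNormal_core E).1, eq_bot_iff, ← hE.img_ker]
      exact img_mono _ h1
    have h3 := constrained_centralizerIn_core_le hE'
    rw [h2] at h3
    refine absurd (fun x hx => ?_) hS1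
    rw [← hE.ker x hx, ← mem_bot]
    exact h3 (mem_centralizerIn'.2 ⟨trivial, fun y hy => by rw [mem_bot.1 hy, one_mul, mul_one]⟩)
  have hC := centSys_isNormalIn hS hF hQ
  have := finite_of_le (centralizerIn_le S F.core)
  have h1 := ih1 _ _ hC.1.1 (centSys_sub F hQ.1) (fun h => hZ (isCentral_of_forall_cMor hQ.1
    fun P f hf => (mor_centSys hQ.1).1 (hf.sub h))) (h.sub (centSys_sub F hQ.1))
  have h2 := le_core (wnormal_isNormal_core hS hC.1)
  refine constrained_of_isNormal hF hQ fun x hx => h2 (constrained_centralizerIn_core_le h1 ?_)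
  exact mem_centralizerIn'.2 ⟨hx, fun y hy => (mem_centralizerIn'.1 hx).2 y (h2 hy)⟩

end CfsgLib.Fusion
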