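import Mathlib
import Cfsg.Agent.Lib.Fusion.OpRes
import Cfsg.Agent.Lib.Fusion.SubNormal
import Cfsg.Agent.Lib.PGroup.Critical

/-!
# Subgroups of small exponent control fusion (Benson–Grodal–Henke)
-/

set_option autoImplicit false

namespace CfsgLib.Fusion

open Cfsg Cfsg.FusionSystem

/-- `4` for `p = 2` and `p` otherwise. -/
def qexp (p : ℕ) : ℕ := if p = 2 then 4 else p

theorem qexp_two : qexp 2 = 4 := rfl

theorem qexp_of_ne {p : ℕ} (h : p ≠ 2) : qexp p = p := if_neg h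

theorem exists_char_detect {G : Type*} [Group G] [Finite G] {p : ℕ} [Fact p.Prime]
    (hG : IsPGroup p G) : ∃ K : Subgroup G, K.Characteristic ∧ (∀ x ∈ K, x ^ qexp p = 1) ∧
      ∀ a : MulAut G, Nat.Coprime (orderOf a) p → (∀ x ∈ K, a x = x) → a = 1 := by
  by_cases h2 : p = 2
  · subst h2
    obtain ⟨H, hc, h1, h2, h3⟩ := PGroup.exists_critical hG
    let K : Subgroup G :=
      { carrier := {x | x ∈ H ∧ x ^ 4 = 1}
        one_mem' := ⟨H.one_mem, one_pow _⟩
        inv_mem' := fun h => ⟨H.inv_mem h.1, by rw [inv_pow, h.2, inv_one]⟩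
        mul_mem' := fun {x y} hx hy => ⟨H.mul_mem hx.1 hy.1, by
          have hc := h2 _ (H.inv_mem hx.1) y
          rw [commutatorElement_def, inv_inv] at hc
          generalize hc' : x⁻¹ * y * x * y⁻¹ = c at hc
          have c1 : Commute x c := hc x hx.1
          have c2 : Commute y c := hc y hy.1
          have c3 : Commute y (x ^ 2) := h1 x hx.1 y hy.1
          have c4 : Commute x (y ^ 2) := h1 y hy.1 x hx.1
          have e1 : y * x * y⁻¹ = x * c := by rw [← hc']; group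
          have e2 : c ^ 2 = 1 := by
            have : (x * c) ^ 2 = x ^ 2 := by
              rw [← e1, conj_pow, c3.eq, mul_inv_cancel_right]
            rwa [c1.mul_pow, mul_eq_left] at this
          have e3 : (x * y) ^ 2 = x ^ 2 * c * y ^ 2 := by rw [← hc', pow_two, pow_two, pow_two]; group
          rw [show 4 = 2 * 2 from rfl, pow_mul, e3,
            ((c4.pow_left 2).mul_left (c2.pow_left 2).symm).mul_pow, (c1.pow_left 2).mul_pow, e2,
            ← pow_mul, ← pow_mul, hx.2, hy.2, mul_one, mul_one]⟩ }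
    refine ⟨K, Subgroup.characteristic_iff_le_comap.2 fun φ x hx =>
      ⟨PGroup.apply_mem_of_characteristic φ hx.1, ?_⟩, fun x hx => hx.2, fun a ha h => ?_⟩
    · rw [← map_pow, hx.2, map_one]
    · exact PGroup.aut_eq_one_of_fix_self_centralizing hG h3 ha
        (PGroup.aut_apply_eq_of_fix_pow_eq_one (n := 2) two_ne_zero (by norm_num) ha
          (hG.to_subgroup H) (fun x hx => PGroup.apply_mem_of_characteristic a hx)
          fun x hx h4 => h x ⟨hx, h4⟩)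
  · obtain ⟨K, h1, h3, -, h4⟩ := PGroup.exists_critical_exponent_prime h2 hG
    exact ⟨K, h1, by rwa [qexp_of_ne h2], h4⟩

theorem exists_selfCentralizing_in {G : Type*} [Group G] [Finite G] {p : ℕ} [Fact p.Prime]
    (hG : IsPGroup p G) (D : Subgroup G) [D.Normal] : ∃ A ≤ D, A.Normal ∧ IsMulCommutative A ∧
      D ⊓ Subgroup.centralizer (A : Set G) ≤ A := by
  obtain ⟨A, -, ⟨h1, h2, h3⟩, hmax⟩ := PGroup.exists_maximal_ge
    (fun A : Subgroup G => A ≤ D ∧ A.Normal ∧ IsMulCommutative A) (A := ⊥)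
    ⟨bot_le, inferInstance, inferInstance⟩
  refine ⟨A, h1, h2, h3, by_contra fun hc => ?_⟩
  obtain ⟨x, hx, hxA, -, h4⟩ := PGroup.exists_central_mod_pow_mem hG hc
  exact hxA (hmax (A ⊔ Subgroup.zpowers x) ⟨sup_le h1 (Subgroup.zpowers_le.2 hx.1),
    PGroup.normal_sup_zpowers h4, PGroup.isMulCommutative_sup_zpowers h3 hx.2⟩ le_sup_left ▸
      Subgroup.mem_sup_right (Subgroup.mem_zpowers x))

variable {Ω : Type*} [Group Ω] {S T P Q R N A D : Subgroup Ω} {F : FusionSystem S} {p : ℕ}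
variable [Fact p.Prime]

theorem exists_detect [Finite P] (hP : IsPGroup p P) (hN : N ≤ P) : ∃ D ≤ N,
    (∀ x ∈ D, x ^ qexp p = 1) ∧
    (∀ α : MulAut P, (∀ x ∈ N, extAut α x ∈ N) → ∀ x ∈ D, extAut α x ∈ D) ∧
    ∀ β : MulAut P, Nat.Coprime (orderOf β) p → (∀ x ∈ P, x⁻¹ * extAut β x ∈ N) →
      (∀ x ∈ D, extAut β x = x) → β = 1 := by
  have := finite_of_le hN
  obtain ⟨K, h1, h2, h3⟩ := exists_char_detect (hP.to_le hN)
  have res : ∀ α : MulAut P, (∀ x ∈ N, extAut α x ∈ N) →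
      ∃ γ : MulAut N, ∀ x ∈ N, extAut γ x = extAut α x := fun α h =>
    ((isHomOn_extAut α).mono hN).exists_aut (injOn_extAut α N)
      (((isHomOn_extAut α).mono hN).img_eq_self (injOn_extAut α N) h)
  refine ⟨K.map N.subtype, Subgroup.map_subtype_le K, ?_, fun α h => ?_, fun β hc h e => ?_⟩
  · rintro _ ⟨x, hx, rfl⟩
    exact congrArg Subtype.val (h2 x hx)
  · rintro _ ⟨x, hx, rfl⟩
    obtain ⟨γ, hγ⟩ := res α h
    exact ⟨γ x, PGroup.apply_mem_of_characteristic γ hx, (extAut_coe γ x).symm.trans (hγ x x.2)⟩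
  · obtain ⟨γ, hγ⟩ := res β fun x hx => (N.mul_mem_cancel_left (N.inv_mem hx)).1 (h x (hN hx))
    have h4 := h3 γ (hc.coprime_dvd_left (orderOf_dvd_of_extAut_eq hN fun x hx => (hγ x hx).symm))
      fun x hx => Subtype.ext ((extAut_coe γ x).symm.trans ((hγ x x.2).trans (e x ⟨x, hx, rfl⟩)))
    refine aut_eq_one fun x hx => fix_of_coprime_of_step hP hc hx ?_
    rw [← hγ _ (h x hx), h4, extAut_one_apply]

theorem exists_detect_abelian [Finite P] (hP : IsPGroup p P) (hN : N ≤ P)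
    (hn : P ≤ Subgroup.normalizer (N : Set Ω)) : ∃ A ≤ N, P ≤ Subgroup.normalizer (A : Set Ω) ∧
    (∀ x ∈ A, ∀ y ∈ A, x * y = y * x) ∧ (∀ x ∈ A, x ^ qexp p = 1) ∧
    ∀ β : MulAut P, Nat.Coprime (orderOf β) p → (∀ x ∈ P, x⁻¹ * extAut β x ∈ N) →
      (∀ x ∈ A, extAut β x = x) → β = 1 := by
  obtain ⟨D, hD, h1, h2, h3⟩ := exists_detect hP hN
  have hDP := hD.trans hN
  have hDn : ∀ g ∈ P, ∀ x ∈ D, g * x * g⁻¹ ∈ D := fun g hg x hx => by
    rw [← extAut_conj ⟨g, hg⟩ (hDP hx)]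
    refine h2 _ (fun y hy => ?_) x hx
    rw [extAut_conj ⟨g, hg⟩ (hN hy)]
    exact conj_mem_of_mem_normalizer (hn hg) hy
  have hD' : (D.subgroupOf P).Normal := ⟨fun x hx g => hDn g g.2 x hx⟩
  obtain ⟨B, hB, hBn, hBc, hC'⟩ := exists_selfCentralizing_in hP (D.subgroupOf P)
  set A := B.map P.subtype with hAB
  have hA : A ≤ D := by rintro _ ⟨x, hx, rfl⟩; exact hB hx
  have hAP := hA.trans hDP
  have hAn : P ≤ Subgroup.normalizer (A : Set Ω) := by
    rw [← Subgroup.normal_subgroupOf_iff_le_normalizer hAP, hAB, Subgroup.subgroupOf,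
      Subgroup.comap_map_eq_self_of_injective P.subtype_injective]
    exact hBn
  have hAc : ∀ x ∈ A, ∀ y ∈ A, x * y = y * x := by
    rintro _ ⟨x, hx, rfl⟩ _ ⟨y, hy, rfl⟩
    exact congrArg Subtype.val (PGroup.isMulCommutative_iff.1 hBc x hx y hy)
  have hC : centralizerIn D A ≤ A := fun x hx => ⟨⟨x, hDP hx.1⟩, hC' ⟨hx.1, fun a ha =>
    Subtype.ext ((mem_centralizerIn'.1 hx).2 a ⟨a, ha, rfl⟩)⟩, rfl⟩
  refine ⟨A, hA.trans hD, hAn, hAc, fun x hx => h1 x (hA hx), fun β hc h e => h3 β hc h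
    fun x hx => fix_of_coprime_of_step hP hc (hDP hx) (e _ (hC ?_))⟩
  have hβ := h2 β (fun y hy => (N.mul_mem_cancel_left (N.inv_mem hy)).1 (h y (hN hy))) x hx
  refine mem_centralizerIn'.2 ⟨D.mul_mem (D.inv_mem hx) hβ, fun a ha => ?_⟩
  have h7 := e _ (conj_mem_of_mem_normalizer (hAn (hDP hx)) ha)
  rw [(isHomOn_extAut β).map_conj (hDP hx) (hAP ha), e a ha] at h7
  calc _ = x⁻¹ * (x * a * x⁻¹) * extAut β x := by group
    _ = _ := by rw [← h7]; group

theorem mem_map_pCore_of_chain_detect [Finite P] (hP : IsPGroup p P) {B : Subgroup (MulAut P)}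
    (hD : D ≤ P) (hdet : ∀ β ∈ B, Nat.Coprime (orderOf β) p → (∀ x ∈ D, extAut β x = x) → β = 1)
    (K : ℕ → Subgroup Ω) (n : ℕ) (hinv : ∀ α ∈ B, ∀ i, ∀ x ∈ P, x ∈ K i → extAut α x ∈ K i)
    (h0 : ∀ x ∈ P, x ∈ K 0 → x = 1) (hn : D ≤ K n) {β : MulAut P} (hβ : β ∈ B)
    (hstab : ∀ i < n, ∀ x ∈ P, x ∈ K (i + 1) → x⁻¹ * extAut β x ∈ K i) :
    β ∈ (pCore p B).map B.subtype := by
  have := finite_mulAut P
  refine CfsgLib.Core.le_map_pCore (N := chainStab B K n hinv) (fun _ h => h.1)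
    (le_normalizer_of_conj_mem_sub fun α hα γ hγ => ?_)
    (isPGroup_of_coprime_eq_one fun γ hγ hc => hdet γ hγ.1 hc fun x hx => ?_) ⟨hβ, hstab⟩
  · refine ⟨B.mul_mem (B.mul_mem hα hγ.1) (B.inv_mem hα), fun i hi x hx hxK => ?_⟩
    have hy := extAut_mem α⁻¹ hx
    have h1 := hγ.2 i hi _ hy (hinv _ (B.inv_mem hα) _ x hx hxK)
    have h2 := hinv α hα i _ (P.mul_mem (P.inv_mem hy) (extAut_mem γ hy)) h1
    rwa [(isHomOn_extAut α).map_mul (P.inv_mem hy) (extAut_mem γ hy), (isHomOn_extAut α).map_inv hy,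
      extAut_apply_inv, ← extAut_mul_apply, ← extAut_mul_apply] at h2
  · suffices h : ∀ i ≤ n, ∀ x ∈ P, x ∈ K i → extAut γ x = x from h n le_rfl x (hD hx) (hn hx)
    intro i
    induction i with
    | zero => intro _ x hx hxK; rw [h0 x hx hxK]; exact (isHomOn_extAut _).map_one
    | succ i ih =>
      intro hi x hx hxK
      exact fix_of_coprime_of_step hP hc hx (ih (by omega) _
        (P.mul_mem (P.inv_mem hx) (extAut_mem _ hx)) (hγ.2 i (by omega) x hx hxK))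

variable [Finite S]

theorem exists_detect_fus (hS : IsPGroup p S) (hF : F.IsSaturated p) (hP : P ≤ S) :
    ∃ D ≤ P ⊓ F.hyperfocalSubgroup p, (∀ x ∈ D, x ^ qexp p = 1) ∧
      (∀ α ∈ F.autGroup P, ∀ x ∈ D, extAut α x ∈ D) ∧
      ∀ β ∈ F.autGroup P, Nat.Coprime (orderOf β) p → (∀ x ∈ D, extAut β x = x) → β = 1 := by
  have := finite_of_le_S hP
  obtain ⟨D, h1, h2, h3, h4⟩ := exists_detect (hS.to_le hP) (N := P ⊓ F.hyperfocalSubgroup p)
    inf_le_left
  exact ⟨D, h1, h2, fun α hα => h3 α fun x hx => ⟨extAut_mem α hx.1,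
    ((mem_autGroup hP).1 hα).mem_of_stronglyClosed (stronglyClosed_hyperfocal hS hF) hx.1 hx.2⟩,
    fun β hβ hc => h4 β hc fun x hx => ⟨P.mul_mem (P.inv_mem hx) (extAut_mem β hx),
      mem_hyperfocal_of_coprime hP hβ hc hx⟩⟩

/-- A criterion for `S` to be normal in `F` via invariant chains in subgroups of small exponent. -/
theorem isNormal_top_of_small_chain (hS : IsPGroup p S) (hF : F.IsSaturated p)
    (h : ∀ P D, P ≤ S → D ≤ P ⊓ F.hyperfocalSubgroup p → (∀ x ∈ D, x ^ qexp p = 1) →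
      (∀ α ∈ F.autGroup P, ∀ x ∈ D, extAut α x ∈ D) → ∃ (K : ℕ → Subgroup Ω) (n : ℕ),
        (∀ α ∈ F.autGroup P, ∀ i, ∀ x ∈ D, x ∈ K i → extAut α x ∈ K i) ∧
        (∀ x ∈ D, x ∈ K 0 → x = 1) ∧ D ≤ K n ∧
        ∀ a ∈ S, ∀ i < n, ∀ x ∈ D, x ∈ K (i + 1) → x⁻¹ * (a * x * a⁻¹) ∈ K i) :
    F.IsNormal S := by
  refine isNormal_of_le_crf hS hF (weaklyClosed_of_stronglyClosed (stronglyClosed_top F))
    fun P hc hr _ => le_of_conjAut_mem_pCore hS (centric_centralizerIn_le hc) hr le_rfl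
      (hc.1.trans Subgroup.le_normalizer) fun a ha han => ?_
  have := finite_of_le_S hc.1
  obtain ⟨D, h1, h2, h3, h4⟩ := exists_detect_fus hS hF hc.1
  obtain ⟨K, n, k1, k2, k3, k4⟩ := h P D hc.1 h1 h2 h3
  have ha' := autInducedBy_le_autGroup F hc.1 (conjAut_mem_autInducedBy han ha)
  refine mem_map_pCore_of_chain_detect (hS.to_le hc.1) (h1.trans inf_le_left) h4
    (fun i => D ⊓ K i) n (fun α hα i x _ hx => ⟨h3 α hα x hx.1, k1 α hα i x hx.1 hx.2⟩)
    (fun x _ hx => k2 x hx.1 hx.2) (le_inf le_rfl k3) ha' fun i hi x hx hxK =>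
      ⟨D.mul_mem (D.inv_mem hxK.1) (h3 _ ha' x hxK.1), ?_⟩
  rw [extAut_conjAut han hx]
  exact k4 a ha i hi x hxK.1 hxK.2

omit [Finite S] in
theorem card_zpowers_of_pow_qexp {x : Ω} (h : x ^ qexp p = 1) (h1 : x ≠ 1) :
    Nat.card (Subgroup.zpowers x) = p ∨ Nat.card (Subgroup.zpowers x) = 4 := by
  rw [Nat.card_zpowers]
  by_cases hx : x ^ p = 1
  · exact Or.inl (orderOf_eq_prime hx h1)
  · have hp : p = 2 := by_contra fun hp => hx (qexp_of_ne hp ▸ h)
    subst hp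
    exact Or.inr (orderOf_eq_prime_pow (p := 2) (n := 1) (by simpa using hx) h)

theorem mor_of_cyclic_small (hS : IsPGroup p S) (hF : F.IsSaturated p)
    {X : (A : Subgroup Ω) → Set (A →* Ω)}
    (h : ∀ A B : Subgroup Ω, A ≤ F.hyperfocalSubgroup p → B ≤ F.hyperfocalSubgroup p → IsCyclic A →
      (Nat.card A = p ∨ Nat.card A = 4) → IsCyclic B → (Nat.card B = p ∨ Nat.card B = 4) →
      F.homSet A B ⊆ X A) {x : Ω} (hx : x ∈ F.hyperfocalSubgroup p) (he : x ^ qexp p = 1)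
    (h1 : x ≠ 1) {f : Ω → Ω} (hf : Mor F (Subgroup.zpowers x) f) : hf.hom.toHom ∈ X _ := by
  have hA := Subgroup.zpowers_le.2 hx
  have hc := card_zpowers_of_pow_qexp he h1
  refine h _ (img _ f) hA (hf.img_le_of_stronglyClosed (stronglyClosed_hyperfocal hS hF) hA)
    inferInstance hc (hf.hom.img_zpowers ▸ inferInstance) (hf.card_img ▸ hc)
    ⟨hf.toHom_mem, fun y => mem_img_of_mem f y.2⟩

theorem isNormal_top_of_cyclic_small (hS : IsPGroup p S) (hF : F.IsSaturated p)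
    (h : ∀ x ∈ F.hyperfocalSubgroup p, x ^ qexp p = 1 → x ≠ 1 → ∀ f, Mor F (Subgroup.zpowers x) f →
      ∃ g, Mor F S g ∧ g x = f x) : F.IsNormal S := by
  refine isNormal_top_of_small_chain hS hF fun P D hP hD he _ => ?_
  obtain ⟨n, hn⟩ := exists_ucs_eq hS
  refine ⟨ucs S, n, fun α hα i x hx hi => ?_, fun x _ h => by rwa [ucs_zero] at h,
    hn.symm ▸ hD.trans (inf_le_left.trans hP), fun a ha i _ x _ h => ucs_step h ha⟩
  by_cases h1 : x = 1
  · rw [h1, (isHomOn_extAut α).map_one]; exact one_mem _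
  obtain ⟨g, hg, e⟩ := h x (hD hx).2 (he x hx) h1 _
    (((mem_autGroup hP).1 hα).mono (Subgroup.zpowers_le.2 (hD hx).1))
  exact e ▸ hg.mem_ucs hg.img_top hi

/-- Abelian subgroups of small exponent of the hyperfocal subgroup control fusion. -/
theorem isSubsystemOf_of_small (hS : IsPGroup p S) (hF : F.IsSaturated p) {E : FusionSystem S}
    (hE : E.IsSaturated p) (hEF : E.IsSubsystemOf F)
    (h : ∀ A, A ≤ F.hyperfocalSubgroup p → (∀ x ∈ A, ∀ y ∈ A, x * y = y * x) →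
      (∀ x ∈ A, x ^ qexp p = 1) → ∀ f, Mor F A f → Mor E A f) : F.IsSubsystemOf E := by
  suffices H : ∀ P, P ≤ S → ∀ f, Mor F P f → Mor E P f from
    isSubsystemOf_iff.2 fun P f hf => H P hf.le f hf
  refine downward_induction fun P hP ih f hf => ?_
  have := finite_of_le_S hP
  have hH := stronglyClosed_hyperfocal hS hF
  have : Finite (P ⊓ F.hyperfocalSubgroup p : Subgroup Ω) := finite_of_le inf_le_left
  obtain ⟨A, h1, h2, h3, h4, h5⟩ := exists_detect_abelian (hS.to_le hP)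
    (N := P ⊓ F.hyperfocalSubgroup p) inf_le_left fun g hg => mem_normalizer_of_conj_mem
      fun x hx => ⟨P.mul_mem (P.mul_mem hg hx.1) (P.inv_mem hg),
        conj_mem_of_stronglyClosed hH (hP hg) hx.2⟩
  have hAP : A ≤ P := h1.trans inf_le_left
  have hA := h A (h1.trans inf_le_right) h3 h4
  obtain ⟨Q, hAQ, hQ⟩ := exists_fullyNormalized F (hAP.trans hP)
  have hQE : E.IsFullyNormalized Q := ⟨hQ.1, fun R hR => hQ.2 R (isConj_sub hEF hR)⟩
  have hAQ' : E.IsConj A Q := by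
    obtain ⟨k, hk, e⟩ := isConj_iff.1 hAQ
    exact isConj_iff.2 ⟨k, hA k hk, e⟩
  have hfA := hA f (hf.mono hAP)
  obtain ⟨χ, hχ, eχ⟩ := sat_exists_mor_normalizerIn hS hE hQE hAQ'
  obtain ⟨ψ, hψ, eψ⟩ := sat_exists_mor_normalizerIn hS hE hQE
    (isConj_trans (isConj_symm hfA.isConj) hAQ')
  have hPN : P ≤ normalizerIn S A := le_inf hP h2
  have hχP := hχ.mono hPN
  have hfN : ∀ x ∈ P, f x ∈ normalizerIn S (img A f) := fun x hx =>
    hf.mem_normalizerIn_img hAP hx (h2 hx)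
  have hg : Mor F P (ψ ∘ f) := hf.comp (hψ.sub hEF) hfN
  have hgA : Mor E A (ψ ∘ f) := hfA.comp hψ fun x hx => hfN x (hAP hx)
  have egA : img A (ψ ∘ f) = Q := by rw [← hfA.img_img, eψ]
  obtain ⟨m, hm, em⟩ := hgA.extend_to (egA ▸ sat_receptive_of_fullyNormalized hS hE hQE)
    (hg.le_extn_of_ext hAP h2 fun _ _ => rfl)
  obtain ⟨k, hk, k1, k2, k3, -⟩ := hm.exists_inv
  have emA : img A m = Q := (img_congr em).trans egA
  have hQm : Q ≤ img P m := emA ▸ img_mono m hAP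
  have hK := isPGroup_autInducedBy hS Q
  have hN := kNormSys_saturated (K := autInducedBy S Q) hS hF (sat_fullyCentralized hS hF hQ) (by
    rw [inf_idem, inf_eq_right.2 (autInducedBy_le_autGroup F hQ.1)]; exact sylIn_self hK)
  have hU := kNormIn_le S Q (autInducedBy S Q)
  have := finite_of_le_S hU
  have hγ : Mor (kNormSys F Q hQ.1 (autInducedBy S Q)) (img P m) ((ψ ∘ f) ∘ k) :=
    (mor_kNormSys hQ.1).2 (kMor_of ((hk.sub hEF).comp hg k3) hQm le_rfl (fun y hy => by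
      obtain ⟨x, hx, rfl⟩ := hm.mem_img.1 hy
      have := emA ▸ hm.mem_normalizerIn_img hAP hx (h2 hx)
      exact (mem_kNormIn_iff this.2).2 ⟨this.1, conjAut_mem_autInducedBy _ this.1⟩) (one_mem _)
      fun y hy => by
        obtain ⟨x, hx, rfl⟩ := (hm.mono hAP).mem_img.1 (emA.ge hy)
        rw [Function.comp, k1 x (hAP hx), extAut_one_apply, em x hx])
  have hcard : ∀ {R R' : Subgroup Ω} {u}, Mor F P u → img P u = R → R < R' → R' ≤ S →
      Nat.card P < Nat.card R' := fun hu e hlt hR' => by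
    have := finite_of_le_S hR'
    rw [← hu.card_img, e]; exact card_lt_of_lt hlt
  have key := alperin_induction_op (hS.to_le hU) hN
    (Φ := fun R u => (∃ v, Mor F P v ∧ img P v = R ∧ img A v = Q) → Mor E R u)
    (fun R hR s hs _ => Mor.conj E (hR.trans hU) (hU hs))
    (fun R' hc _ _ α hα hco R hR ⟨v, hv, e1, e2⟩ => ?_) (fun R u u' _ h1 e h2 => (h1 h2).congr e)
    (fun R R' u u' hu hu' h1 h2 hm ⟨v, hv, e1, e2⟩ => ?_) hγ ⟨m, hm.sub hEF, rfl, emA⟩
  · obtain ⟨l, hl, l1, -⟩ := hψ.exists_inv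
    refine ((hm.comp_img key).comp hl fun x hx => ?_).congr fun x hx => ?_
    · simp only [Function.comp, k1 x hx]
      exact mem_img_of_mem ψ (hfN x hx)
    · simp only [Function.comp, k1 x hx, l1 _ (hfN x hx)]
  · have hα' := ((mem_autGroup hc.1).1 hα).sub (kNormSys_sub F hQ.1 _)
    rcases hR.eq_or_lt with rfl | hlt
    · have hQR : Q ≤ R := by rw [← e1, ← e2]; exact img_mono v hAP
      obtain ⟨-, g, hg, e3, κ, hκ, e4⟩ := (mor_kNormSys hQ.1).1 ((mem_autGroup hc.1).1 hα)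
      have e5 : ∀ x ∈ Q, extAut α x = extAut κ x := fun x hx => (e3 x (hQR hx)).symm.trans (e4 x hx)
      have hκ1 := eq_one_of_coprime_of_mem_pGroup hK hκ
        (hco.coprime_dvd_left (orderOf_dvd_of_extAut_eq hQR e5))
      have hβ : (hv.autCongr e1).symm α ∈ F.autGroup P :=
        (hv.autCongr_mem_iff e1).1 (by simpa using hα'.mem_autGroup)
      have hco' : Nat.Coprime (orderOf ((hv.autCongr e1).symm α)) p := by
        rwa [MulEquiv.orderOf_eq]
      have := h5 _ hco' (fun x hx => ⟨P.mul_mem (P.inv_mem hx) (extAut_mem _ hx),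
        mem_hyperfocal_of_coprime hP hβ hco' hx⟩) fun x hx => hv.inj (extAut_mem _ (hAP hx)) (hAP hx)
          (by rw [hv.extAut_autCongr_symm e1 α (hAP hx), e5 _ (e2 ▸ mem_img_of_mem v hx), hκ1,
            extAut_one_apply])
      rw [(MulEquiv.map_eq_one_iff _).1 this]
      exact Mor.of_eq_self E hα'.le fun x _ => extAut_one_apply x
    · exact (ih R' hα'.le (hcard hv e1 hlt hα'.le) _ hα').mono hR
  · have hu0 := hu.sub (kNormSys_sub F hQ.1 _)
    have hu1 := hu'.sub (kNormSys_sub F hQ.1 _)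
    refine (h1 ⟨v, hv, e1, e2⟩).comp ?_ hm
    have hvu : Mor F P (u ∘ v) := hv.comp hu0 fun x hx => e1 ▸ mem_img_of_mem v hx
    have e3 : img P (u ∘ v) = img R u := by rw [← hv.img_img, e1]
    rcases (img_le_iff.2 hm).eq_or_lt with e | hlt
    · refine h2 ⟨u ∘ v, hvu, e3.trans e, ?_⟩
      have hQR : Q ≤ R := by rw [← e1, ← e2]; exact img_mono v hAP
      obtain ⟨-, g, hg, e4, κ, -, e5⟩ := (mor_kNormSys hQ.1).1 hu
      rw [← (hv.mono hAP).img_img, e2, img_congr fun x hx => (e4 x (hQR hx)).symm.trans (e5 x hx),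
        img_extAut]
    · exact ih R' hu1.le (hcard hvu e3 hlt hu1.le) _ hu1

end CfsgLib.Fusion
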