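import Mathlib
import Cfsg.Agent.Lib.Fusion.Resist
import Cfsg.Agent.Lib.Fusion.GroupFactor
import Cfsg.Agent.Lib.Fusion.ModelDefs
import Cfsg.Agent.Lib.Fusion.AutPair
import Cfsg.Agent.Lib.Fusion.GenExtra

/-!
Supersoluble fusion systems: a chain of strongly closed subgroups with cyclic steps.
-/

set_option autoImplicit false

namespace CfsgLib.Fusion

open Cfsg Cfsg.FusionSystem Subgroup
open scoped commutatorElement

theorem isCyclic_sec_comap {G G' : Type*} [Group G] [Group G'] {X Y : Subgroup G} [X.Normal]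
    (h : IsCyclic (Sec X Y)) (f : G' →* G) : IsCyclic (Sec (X.comap f) (Y.comap f)) := by
  let j : G' ⧸ X.comap f →* G ⧸ X := QuotientGroup.map _ _ f le_rfl
  have hj : Function.Injective j := by
    rw [injective_iff_map_eq_one]
    intro q hq
    obtain ⟨x, rfl⟩ := QuotientGroup.mk_surjective q
    exact (QuotientGroup.eq_one_iff _).2 ((QuotientGroup.eq_one_iff (f x)).1 hq)
  have : IsCyclic ((Sec (X.comap f) (Y.comap f)).map j) := isCyclic_of_le (H' := Sec X Y) (by
    rintro _ ⟨_, ⟨x, hx, rfl⟩, rfl⟩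
    exact ⟨f x, hx, rfl⟩)
  exact (equivMapOfInjective _ j hj).isCyclic.2 this

variable {Ω : Type*} [Group Ω] {S : Subgroup Ω} {F : FusionSystem S} {p : ℕ} {P X Y : Subgroup Ω}

/-- A chain of strongly closed subgroups from `1` to `S` with cyclic steps. -/
def Supersol (F : FusionSystem S) : Prop :=
  ∃ (m : ℕ) (c : Fin (m + 1) → Subgroup Ω), c 0 = ⊥ ∧ c (Fin.last m) = S ∧
    (∀ i : Fin (m + 1), F.StronglyClosed (c i)) ∧
    ∀ i : Fin m, c i.castSucc ≤ c i.succ ∧ ∃ x ∈ S, c i.succ = c i.castSucc ⊔ zpowers x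

theorem Supersol.induction (h : Supersol F) {Φ : Subgroup Ω → Prop} (h0 : Φ ⊥)
    (hs : ∀ X x, x ∈ S → F.StronglyClosed X → F.StronglyClosed (X ⊔ zpowers x) → Φ X →
      Φ (X ⊔ zpowers x)) : Φ S := by
  obtain ⟨m, c, hc0, hcm, hsc, hst⟩ := h
  have : ∀ i, Φ (c i) := fun i => by
    induction i using Fin.induction with
    | zero => rwa [hc0]
    | succ i ih =>
      obtain ⟨-, x, hx, e⟩ := hst i
      exact e ▸ hs _ x hx (hsc _) (e ▸ hsc _) ih
  exact hcm ▸ this _

theorem supersol_of_step [Finite S] (h : ∀ X, F.StronglyClosed X → X ≠ S →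
    ∃ x ∈ S, x ∉ X ∧ F.StronglyClosed (X ⊔ zpowers x)) : Supersol F := by
  have key : ∀ X, X ≤ S → F.StronglyClosed X → ∃ (m : ℕ) (c : Fin (m + 1) → Subgroup Ω),
      c 0 = X ∧ c (Fin.last m) = S ∧ (∀ i, F.StronglyClosed (c i)) ∧
      ∀ i : Fin m, c i.castSucc ≤ c i.succ ∧ ∃ x ∈ S, c i.succ = c i.castSucc ⊔ zpowers x := by
    refine downward_induction fun X hX ih hsc => ?_
    by_cases e : X = S
    · exact ⟨0, fun _ => X, rfl, e, fun _ => hsc, fun i => i.elim0⟩
    obtain ⟨x, hx, hxX, hY⟩ := h X hsc e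
    have := finite_of_le hY.1
    obtain ⟨m, c, h0, h1, h2, h3⟩ := ih _ hY.1 (lt_of_not_ge fun hle => hxX (by
      rw [eq_of_le_of_card_le' (le_sup_left : X ≤ X ⊔ zpowers x) hle]
      exact mem_sup_right (mem_zpowers x))) hY
    exact ⟨m + 1, Fin.cons X c, rfl, h1, fun i => Fin.cases hsc h2 i,
      fun i => Fin.cases ⟨(h0 ▸ le_sup_left : X ≤ c 0), x, hx, h0⟩ h3 i⟩
  exact key ⊥ bot_le (stronglyClosed_bot F)

theorem sc_aInv (hX : F.StronglyClosed X) (hP : P ≤ S) : AInv (F.autGroup P) (X.subgroupOf P) :=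
  aInv_subgroupOf_of_mor hP fun f hf _ x hx hxX => (stronglyClosed_iff.1 hX).2 _ f hf x hx hxX

theorem sc_normal (hX : F.StronglyClosed X) (hP : P ≤ S) : (X.subgroupOf P).Normal :=
  (sc_aInv hX hP).normal (Inn_le_autGroup F hP)

theorem sup_zpowers_subgroupOf (hX : X ≤ S) (x : S) :
    (X ⊔ zpowers (x : Ω)).subgroupOf S = X.subgroupOf S ⊔ zpowers x := by
  rw [subgroupOf_sup hX ((zpowers_le).2 x.2), ← coe_subtype, ← MonoidHom.map_zpowers,
    show ((zpowers x).map S.subtype).subgroupOf S = _ from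
      comap_map_eq_self_of_injective S.subtype_injective _]

theorem sc_isCyclic_sec (hX : F.StronglyClosed X) (hP : P ≤ S) {x : Ω} (hx : x ∈ S)
    [(X.subgroupOf P).Normal] : IsCyclic (Sec (X.subgroupOf P) ((X ⊔ zpowers x).subgroupOf P)) :=
  have := sc_normal hX le_rfl
  isCyclic_sec_comap (isCyclic_sec (sup_zpowers_subgroupOf hX.1 ⟨x, hx⟩).le) (inclusion hP)

variable [Finite S] [hp : Fact p.Prime]

omit [Finite S] in
theorem Supersol.copStab (h : Supersol F) (hS : IsPGroup p S) (hP : P ≤ S) {u : MulAut P}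
    (hu : u ∈ F.autGroup P) (hup : IsPGroup p (zpowers u)) : CopStab p (F.autGroup P) ⊥ ⊤ u := by
  rw [← subgroupOf_eq_top.2 hP]
  refine h.induction (Φ := fun X => CopStab p (F.autGroup P) ⊥ (X.subgroupOf P) u) ?_
    fun X x hx hX hY ih => ?_
  · rw [bot_subgroupOf]
    exact copStab_refl (aInv_bot _) hu
  · have := sc_normal hX hP
    exact ih.trans (hS.to_le hP) bot_le
      (copStab_of_isCyclic (sc_aInv hX hP) (sc_aInv hY hP) (sc_isCyclic_sec hX hP hx) hu hup)

theorem Supersol.isNormal (h : Supersol F) (hS : IsPGroup p S) (hF : F.IsSaturated p) :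
    F.IsNormal S := isNormal_top_of_no_essential hS hF fun E hE => by
  have := essential_finite hE
  obtain ⟨M, hM⟩ := essential_essAut hS hF hE
  exact hM.false_of_copStab (essential_isPGroup hS hE) fun u hu =>
    (h.copStab hS hE.1.1 (hM.U_le_A hu) (hM.isPGroup_zpowers hu)).mono bot_le le_rfl

theorem Supersol.diag (h : Supersol F) (hS : IsPGroup p S) (hP : P ≤ S) {H : Subgroup (MulAut P)}
    (hle : H ≤ F.autGroup P) (hH : (Nat.card H).Coprime p) :
    IsMulCommutative H ∧ ∀ h ∈ H, h ^ (p - 1) = 1 := diag_of_diagElt fun γ hγ => by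
  have := finite_of_le hP
  have key : StabOn γ ⊥ (S.subgroupOf P) := by
    refine h.induction (Φ := fun X => StabOn γ ⊥ (X.subgroupOf P)) ?_ fun X x hx hX hY ih => ?_
    · rw [bot_subgroupOf]
      exact stabOn_of_inv (aInv_bot ⊤ γ trivial)
    · have := sc_normal hX hP
      exact ih.trans_of_coprime (hS.to_le hP) (orderOf_coprime_of_mem hH hγ.mem) bot_le
        (hγ.stabOn (hS.to_le hP) hH ((sc_aInv hX hP).mono hle) ((sc_aInv hY hP).mono hle)
          (sc_isCyclic_sec hX hP hx))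
  exact MulEquiv.ext fun y => (inv_mul_eq_one.1 (mem_bot.1 (key y (hP y.2)))).symm

theorem Supersol.isNil (h : Supersol F) (hS : IsPGroup 2 S) : IsNil 2 F := fun P => by
  by_cases hP : P ≤ S
  · have := finite_autGroup F P
    refine isPGroup_of_forall_coprime_eq_one fun β hβ hc => ?_
    simpa using (h.diag hS hP (zpowers_le.2 hβ) (by rwa [Nat.card_zpowers])).2 β (mem_zpowers β)
  · rw [autGroup_eq_bot_of_not_le hP]
    exact IsPGroup.of_bot

omit [Finite S] hp in
theorem exists_isRealizedBy {G : Type*} [Group G] {ι : S →* G} (hi : Function.Injective ι) :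
    ∃ F : FusionSystem S, F.IsRealizedBy ι :=
  ⟨realSub hi ⊤ le_rfl le_top, isRealizedBy_of_mor hi fun _ _ hP _ hf => (mor_realSub _ _ _).trans
    ⟨fun ⟨_, _, g, _, hg⟩ => ⟨g, hg⟩, fun ⟨g, hg⟩ => ⟨hP, hf, g, trivial, hg⟩⟩⟩

/-- Every `p'`-group of automorphisms of `S` lies in the automizer of some saturated system. -/
theorem exists_saturated_ge (hS : IsPGroup p S) {H : Subgroup (MulAut S)}
    (hH : (Nat.card H).Coprime p) : ∃ F : FusionSystem S, F.IsSaturated p ∧ H ≤ F.autGroup S := by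
  have := finite_mulAut' S
  have : Finite (S ⋊[H.subtype] H) := Finite.of_equiv _ SemidirectProduct.equivProd.symm
  obtain ⟨F, hι⟩ := exists_isRealizedBy (S := S) (SemidirectProduct.inl_injective (φ := H.subtype))
  refine ⟨F, realized_saturated hι (sylIn_of_not_dvd le_top (hS.of_surjective _
    (MonoidHom.rangeRestrict_surjective _)) ?_), fun α hα => ?_⟩
  · rw [relIndex_top_right, SemidirectProduct.range_inl_eq_ker_rightHom, index_ker,
      MonoidHom.range_eq_top.2 SemidirectProduct.rightHom_surjective, card_top]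
    exact hp.out.coprime_iff_not_dvd.1 hH.symm
  · rw [realized_autGroup hι le_rfl]
    refine ⟨SemidirectProduct.inr ⟨α, hα⟩, trivial, fun x => ?_⟩
    rw [extFun_apply _ (α x).2, extFun_apply _ x.2, ← map_inv]
    exact SemidirectProduct.inl_aut (φ := H.subtype) ⟨α, hα⟩ x

omit [Finite S] hp in
theorem stronglyClosed_of_aInv (hn : F.IsNormal S) (hX : X ≤ S)
    (h : AInv (F.autGroup S) (X.subgroupOf S)) : F.StronglyClosed X := by
  refine stronglyClosed_iff.2 ⟨hX, fun P f hf x hx hxX => ?_⟩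
  obtain ⟨g, hg, e, e'⟩ := hf.exists_ext_of_le_normal hn hf.le
  obtain ⟨α, hα, e''⟩ := hg.exists_aut e
  rw [← e' x hx, ← e'' x (hX hxX), extAut_apply α (hX hxX)]
  exact h α hα ⟨x, hX hxX⟩ hxX

theorem supersol_of_diag (hS : IsPGroup p S) (hF : F.IsSaturated p) (hn : F.IsNormal S)
    (h : ∀ H ≤ F.autGroup S, (Nat.card H).Coprime p →
      IsMulCommutative H ∧ ∀ h ∈ H, h ^ (p - 1) = 1) : Supersol F := by
  have := finite_mulAut' S
  have hsyl := sat_sylIn_top hS hF
  have hi : ((Inn S).subgroupOf (F.autGroup S)).index.Coprime p :=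
    (hp.out.coprime_iff_not_dvd.2 hsyl.not_dvd_relIndex).symm
  obtain ⟨K, hK⟩ := exists_right_complement'_of_coprime (N := (Inn S).subgroupOf (F.autGroup S)) (by
    obtain ⟨k, hk⟩ := IsPGroup.iff_card.1 (hsyl.isPGroup.comap_subtype (K := F.autGroup S))
    exact hk ▸ (hi.pow_right k).symm)
  obtain ⟨hc, he⟩ := h (K.map (F.autGroup S).subtype) (map_subtype_le K)
    (by rwa [card_map_of_injective (subtype_injective _), ← hK.symm.index_eq_card])
  have hA : F.autGroup S ≤ Inn S ⊔ K.map (F.autGroup S).subtype := by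
    rw [← map_subgroupOf_eq_of_le hsyl.le, ← Subgroup.map_sup, hK.sup_eq_top]
    exact fun α hα => ⟨⟨α, hα⟩, trivial, rfl⟩
  refine supersol_of_step fun X hX hne => ?_
  have := sc_normal hX le_rfl
  obtain ⟨y, hy, h1, h2⟩ := exists_eigen_mod hS hc he ((sc_aInv hX le_rfl).mono (map_subtype_le K))
    fun e => hne (le_antisymm hX.1 (subgroupOf_eq_top.1 e))
  refine ⟨y, y.2, hy, stronglyClosed_of_aInv hn (sup_le hX.1 (zpowers_le.2 y.2)) ?_⟩
  rw [sup_zpowers_subgroupOf hX.1]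
  have := CfsgLib.PGroup.normal_sup_zpowers h1
  exact ((aInv_Inn_of_normal _).sup_aut h2).mono hA

/-- Supersoluble type: resistant, and the `p'`-groups of automorphisms are diagonal. -/
theorem supersol_type_iff (hS : IsPGroup p S) :
    (∀ F : FusionSystem S, F.IsSaturated p → Supersol F) ↔
      (∀ F : FusionSystem S, F.IsSaturated p → F.IsNormal S) ∧ AutDiag p S := by
  refine ⟨fun h => ⟨fun F hF => (h F hF).isNormal hS hF, fun H hH => ?_⟩,
    fun h F hF => supersol_of_diag hS hF (h.1 F hF) fun H _ => h.2 H⟩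
  obtain ⟨F, hF, hle⟩ := exists_saturated_ge hS hH
  exact (h F hF).diag hS le_rfl hle hH

section Abelian

omit [Finite S] in
theorem exists_pow_eq_of_isCyclic {C : Type*} [Group C] [IsCyclic C] {e k : ℕ}
    (hC : Nat.card C = p ^ e) (hk : k < e) {x : C} (hx : x ^ p ^ k = 1) : ∃ y, x = y ^ p := by
  obtain ⟨g, hg⟩ := IsCyclic.exists_generator (α := C)
  obtain ⟨m, rfl⟩ := mem_zpowers_iff.1 (hg x)
  rw [← zpow_natCast, ← zpow_mul, ← orderOf_dvd_iff_zpow_eq_one,
    orderOf_eq_card_of_forall_mem_zpowers hg, hC] at hx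
  obtain ⟨d, rfl⟩ := Nat.exists_eq_add_of_lt hk
  have hp0 : ((p ^ k : ℕ) : ℤ) ≠ 0 := by exact_mod_cast (pow_pos hp.out.pos k).ne'
  rw [add_assoc, pow_add, Nat.cast_mul, mul_comm m, mul_dvd_mul_iff_left hp0] at hx
  obtain ⟨c, rfl⟩ : (p : ℤ) ∣ m := (Int.natCast_dvd_natCast.2 (dvd_pow_self p d.succ_ne_zero)).trans hx
  exact ⟨g ^ c, by rw [mul_comm, zpow_mul, zpow_natCast]⟩

omit [Finite S] in
/-- A product of cyclic `p`-groups of pairwise distinct orders. -/
theorem autDiag_pi {ι : Type*} [Finite ι] (C : ι → Type*) [∀ i, CommGroup (C i)]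
    [∀ i, IsCyclic (C i)] (e : ι → ℕ) (he : ∀ i, Nat.card (C i) = p ^ e i)
    (hinj : Function.Injective e) : AutDiag p (∀ i, C i) := by
  classical
  have : ∀ i, Finite (C i) := fun i => Nat.finite_of_card_ne_zero (he i ▸ (pow_pos hp.out.pos _).ne')
  obtain ⟨N, hN⟩ := (Set.finite_range e).bddAbove
  have hexp : ∀ i k, e i ≤ k → ∀ x : C i, x ^ p ^ k = 1 := fun i k hk x =>
    orderOf_dvd_iff_pow_eq_one.1 ((orderOf_dvd_natCard x).trans (he i ▸ pow_dvd_pow p hk))
  have hall : ∀ x : ∀ i, C i, x ^ p ^ N = 1 := fun x => funext fun i => hexp i N (hN ⟨i, rfl⟩) _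
  have hG : IsPGroup p (∀ i, C i) := fun x => ⟨N, hall x⟩
  let W : ℕ → Subgroup (∀ i, C i) := fun k => (powMonoidHom (p ^ k)).ker ⊔ frattini _
  refine autDiag_of_chain hG W N (sup_le (fun x hx => ?_) le_rfl) (eq_top_iff.2 fun x _ =>
    mem_sup_left (hall x)) (fun k => AInv.sup (fun α _ x hx => ?_) (aInv_frattini _))
    fun k _ => ⟨sup_le_sup_right (fun x hx => ?_) _, ?_⟩
  · rw [MonoidHom.mem_ker, powMonoidHom_apply, pow_zero, pow_one] at hx
    exact hx ▸ Subgroup.one_mem _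
  · rw [MonoidHom.mem_ker, powMonoidHom_apply] at hx ⊢
    rw [← map_pow, hx, map_one]
  · rw [MonoidHom.mem_ker, powMonoidHom_apply] at hx ⊢
    rw [pow_succ, pow_mul, hx, one_pow]
  · obtain ⟨y, hy⟩ : ∃ y : ∀ i, C i, ∀ i, e i = k + 1 → ∀ a, Pi.mulSingle i a ∈ zpowers y := by
      by_cases h : ∃ i, e i = k + 1
      · obtain ⟨i, hi⟩ := h
        obtain ⟨g, hg⟩ := IsCyclic.exists_generator (α := C i)
        refine ⟨Pi.mulSingle i g, fun j hj a => ?_⟩
        obtain rfl := hinj (hj.trans hi.symm)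
        obtain ⟨m, rfl⟩ := mem_zpowers_iff.1 (hg a)
        exact ⟨m, (map_zpow (MonoidHom.mulSingle C j) g m).symm⟩
      · exact ⟨1, fun i hi => absurd ⟨i, hi⟩ h⟩
    refine ⟨y, sup_le (fun x hx => pi_mem_of_mulSingle_mem x fun i => ?_)
      (le_sup_right.trans le_sup_left)⟩
    rcases lt_trichotomy (e i) (k + 1) with h | h | h
    · refine mem_sup_left (mem_sup_left ?_)
      rw [MonoidHom.mem_ker, powMonoidHom_apply]
      exact (map_pow (MonoidHom.mulSingle C i) _ _).symm.trans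
        (by rw [hexp i k (by omega), map_one])
    · exact mem_sup_right (hy i h _)
    · obtain ⟨z, hz⟩ := exists_pow_eq_of_isCyclic (he i) h (x := x i) (congrFun hx i)
      refine mem_sup_left (mem_sup_right ?_)
      rw [hz, Pi.mulSingle_pow]
      exact CfsgLib.PGroup.pow_mem_frattini hG _

omit [Finite S] hp in
theorem nonempty_pi_equiv_split {ι : Type*} (C : ι → Type*) [∀ i, Group (C i)] {i j : ι}
    (hij : i ≠ j) :
    Nonempty ((∀ k, C k) ≃* (C i × C j) × ∀ k : {k // k ≠ i ∧ k ≠ j}, C k) := by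
  classical
  let f : (∀ k, C k) →* (C i × C j) × ∀ k : {k // k ≠ i ∧ k ≠ j}, C k :=
    MonoidHom.mk' (fun x => ((x i, x j), fun k => x k)) fun _ _ => rfl
  refine ⟨MulEquiv.ofBijective f ⟨fun x y h => funext fun k => ?_, fun ⟨⟨a, b⟩, c⟩ => ⟨Function.update (Function.update
      (fun k => if h : k ≠ i ∧ k ≠ j then c ⟨k, h⟩ else 1) i a) j b, ?_⟩⟩⟩
  · by_cases h1 : k = i
    · exact h1 ▸ congrArg (·.1.1) h
    by_cases h2 : k = j
    · exact h2 ▸ congrArg (·.1.2) h
    exact congrFun (congrArg (·.2) h) ⟨k, h1, h2⟩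
  · refine Prod.ext (Prod.ext ?_ ?_) (funext fun k => ?_)
    · simp [f, Function.update_of_ne hij]
    · simp [f]
    · simp [f, k.2.1, k.2.2]

omit [Finite S] in
theorem autDiag_iff_of_comm {G : Type*} [Group G] [Finite G] (hG : IsPGroup p G)
    (hc : ∀ a b : G, a * b = b * a) : AutDiag p G ↔ ¬ ∃ (n : ℕ) (H : Type) (_ : CommGroup H),
      0 < n ∧ Nonempty (G ≃* (Multiplicative (ZMod (p ^ n)) × Multiplicative (ZMod (p ^ n))) × H) := by
  refine ⟨fun h ⟨n, H, _, hn, ⟨e⟩⟩ => not_autDiag_of_equiv hn e h, fun h => ?_⟩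
  obtain ⟨E, _, ⟨e0⟩⟩ := exists_type_zero_commGroup G hc
  have := Finite.of_equiv _ e0.toEquiv
  obtain ⟨ι, _, n, hn, ⟨e1⟩⟩ := CommGroup.equiv_prod_multiplicative_zmod_of_finite E
  have : ∀ i, NeZero (n i) := fun i => ⟨by have := hn i; omega⟩
  have hP := hG.of_equiv (e0.trans e1)
  choose a ha using fun i => IsPGroup.iff_card.1 (hP.of_surjective (Pi.evalMonoidHom _ i)
    (Function.surjective_eval i))
  refine (autDiag_pi _ a ha fun i j hij => by_contra fun hne => h ?_).of_equiv (e0.trans e1)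
  obtain ⟨e2⟩ := nonempty_pi_equiv_split (fun i => Multiplicative (ZMod (n i))) hne
  have : NeZero (p ^ a i) := ⟨(pow_pos hp.out.pos _).ne'⟩
  refine ⟨a i, _, inferInstance, Nat.pos_of_ne_zero fun h0 => ?_, ⟨(e0.trans e1).trans (e2.trans
    (MulEquiv.prodCongr (MulEquiv.prodCongr (mulEquivOfCyclicCardEq ?_)
      (mulEquivOfCyclicCardEq ?_)) (MulEquiv.refl _)))⟩⟩
  · have h1 := ha i
    have := hn i
    simp [h0] at h1
    omega
  · rw [ha i]; simp
  · rw [ha j, hij]; simp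

end Abelian

end CfsgLib.Fusion
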